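import Groth.Agent.L21.P1.Twist
import Groth.Agent.L19.ProjBdl.Basis
import Groth.Agent.L19.LocFreeDescent
import Groth.Agent.L18.LocFreeTilde
import Groth.Agent.L29.DCoh.PCQCoh
import Mathlib.LinearAlgebra.FreeModule.PID
import Mathlib.RingTheory.Flat.TorsionFree

/-!
Locally free modules on the projective line are free on the two charts.
-/

set_option autoImplicit false
set_option backward.isDefEq.respectTransparency false
set_option linter.style.haveILetI false
universe u

open CategoryTheory CategoryTheory.Limits AlgebraicGeometry TopologicalSpace Opposite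

noncomputable section

namespace Groth.L21.P1

open Groth.L18.PUP (P D cc)
open Groth.L19.ProjBdl (IsBasisOn)

theorem rank_eq_of_isBasisOn {X : Scheme.{u}} {M : X.Modules} {V W : X.Opens} {n m : ℕ}
    {b : Fin n → Γ(M, V)} {c : Fin m → Γ(M, W)} (hb : IsBasisOn M V b) (hc : IsBasisOn M W c)
    {x : X} (hxV : x ∈ V) (hxW : x ∈ W) : n = m := by
  have h1 := Groth.L17.PullBasis.bijective_stalk M b hb.locBases x hxV
  have h2 := Groth.L17.PullBasis.bijective_stalk M c hc.locBases x hxW
  let e : ∀ (p : ℕ) (v : Fin p → M.presheaf.stalk x), (Fin p → X.presheaf.stalk x) →ₗ[X.presheaf.stalk x]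
      M.presheaf.stalk x := fun p v => Fintype.linearCombination (X.presheaf.stalk x) v
  let e1 := LinearEquiv.ofBijective (e n _) h1
  let e2 := LinearEquiv.ofBijective (e m _) h2
  simpa using (e1.trans e2.symm).finrank_eq

/-- Finite locally free modules are free on affine opens with principal ideal domains of functions. -/
theorem exists_basis_of_pid {X : Scheme.{u}} {A : CommRingCat.{u}} [IsDomain A] [IsPrincipalIdealRing A]
    (j : Spec A ⟶ X) [IsOpenImmersion j] {E : X.Modules} (hF : FlatMod.IsFinLocFree E) :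
    ∃ (n : ℕ) (b : Fin n → Γ(E, j.opensRange)), IsBasisOn E j.opensRange b := by
  have hM : FlatMod.IsFinLocFree (E.restrict j) :=
    Groth.L29.LocFree.of_iso ((Scheme.Modules.restrictFunctorIsoPullback j).app E).symm
      (Groth.L29.LocFree.pullback j hF)
  haveI hq : (E.restrict j).IsQuasicoherent := Groth.L29.DC.PCQCoh.isQCoh_of_isFinLocFree hM
  haveI := (isQuasicoherent_iff_isIso_fromTildeΓ (E.restrict j)).1 hq
  let N := (modulesSpecToSheaf.obj (E.restrict j)).presheaf.obj (op (⊤ : (Spec A).Opens))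
  let e : tilde N ≅ E.restrict j := asIso (E.restrict j).fromTildeΓ
  obtain ⟨hfin, hproj⟩ := (Groth.L18.LFP.isFinLocFree_tilde_iff N).1 (Groth.L29.LocFree.of_iso e.symm hM)
  haveI : Module.Flat A N := Module.Flat.of_projective
  haveI : Module.Free A N := Module.free_of_finite_type_torsion_free'
  let b := Module.Free.chooseBasis A N
  haveI : Fintype (Module.Free.ChooseBasisIndex A N) := @Fintype.ofFinite _ (Module.Finite.finite_basis b)
  let σ := (Fintype.equivFin (Module.Free.ChooseBasisIndex A N)).trans Equiv.ulift.symm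
  let f₂ := b.repr.trans (Finsupp.domLCongr σ)
  let i' : E.restrict j ≅ FlatMod.freeMod (Spec A) _ :=
    e.symm ≪≫ (tilde.functor _).mapIso f₂.toModuleIso ≪≫ Groth.L19.PullChart.freeTildeIso _ _
  obtain ⟨i''⟩ := Groth.L19.PullChart.exists_free_of_chart E j i'
  obtain ⟨s, hs⟩ := Groth.L17.FinLocBases.exists_isBasis E i''
  have hle : j.opensRange ≤ j.opensRange.ι ''ᵁ ⊤ := by
    rw [Scheme.Hom.image_top_eq_opensRange, Scheme.Opens.opensRange_ι]
  exact ⟨_, _, (Groth.L19.ProjBdl.isBasisOn_of_locBases hs).mono hle⟩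

variable (k : Type u) [Field k]

theorem opensRange_ch (i : Fin 2) : (Groth.L18.PUP.ch 1 k i).opensRange = U k i :=
  Proj.opensRange_awayι _ _ _ _

/-- The chart ring. -/
abbrev A (i : Fin 2) : CommRingCat.{u} :=
  CommRingCat.of (HomogeneousLocalization.Away (CohB1.polyGrading 1 k) (MvPolynomial.X i : MvPolynomial (Fin (1 + 1)) k))

/-- The chart ring as a polynomial ring. -/
def eA (i : Fin 2) : Polynomial k ≃+* A k i :=
  (RingEquiv.ofBijective (φ k i) (φ_bijective k i)).trans
    (Proj.basicOpenIsoAway (CohB1.polyGrading 1 k) (MvPolynomial.X i)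
      (Groth.L18.PS.X_mem 1 i) one_pos).symm.commRingCatIsoToRingEquiv

theorem exists_basis_chart {r : ℕ} {E : (P 1 k).Modules} (hE : FlatMod.IsFinLocFreeOfRank r E) (i : Fin 2) :
    ∃ b : Fin r → Γ(E, U k i), IsBasisOn E (U k i) b := by
  have hF : FlatMod.IsFinLocFree E := fun x => by
    obtain ⟨W, hx, e⟩ := hE x
    exact ⟨W, r, hx, e⟩
  haveI : IsDomain (A k i) := (eA k i).symm.toMulEquiv.isDomain _
  haveI : IsPrincipalIdealRing (A k i) := IsPrincipalIdealRing.of_surjective (eA k i).toRingHom (eA k i).surjective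
  obtain ⟨n, b, hb⟩ := exists_basis_of_pid (A := A k i) (Groth.L18.PUP.ch 1 k i) hF
  have hb' := hb.mono (opensRange_ch k i).ge
  obtain ⟨x, hx⟩ : ∃ x, x ∈ U k i := by
    obtain ⟨p⟩ : Nonempty (PrimeSpectrum (A k i)) := inferInstance
    exact ⟨Groth.L18.PUP.ch 1 k i p, (opensRange_ch k i).le ⟨p, rfl⟩⟩
  obtain ⟨W, hxW, ⟨eW⟩⟩ := hE x
  obtain ⟨t, ht⟩ := Groth.L17.FinLocBases.exists_isBasis E eW
  have hrk := rank_eq_of_isBasisOn hb' (Groth.L19.ProjBdl.isBasisOn_of_locBases ht) hx (by
    rw [Scheme.Hom.image_top_eq_opensRange, Scheme.Opens.opensRange_ι]; exact hxW)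
  subst hrk
  exact ⟨_, hb'⟩

end Groth.L21.P1
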