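import Groth.Agent.L21.P1.Split
import Groth.Agent.L21.RR.Coh
import Groth.Agent.L21.RR.Equality
import Groth.Agent.L16.ProjSpace.Basic
import Groth.Agent.L16.ProjSpace.CohTwist
import Groth.Agent.L16.ProjSpace.TopCoh
import Groth.Agent.L03.PlanePoints
import Groth.Agent.L16.ProperFinite

/-!
Cohomology of sums of twisting sheaves on the projective line.
-/

set_option autoImplicit false
set_option backward.isDefEq.respectTransparency false
set_option linter.style.haveILetI false
universe u

open CategoryTheory CategoryTheory.Limits AlgebraicGeometry TopologicalSpace Opposite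

noncomputable section

namespace Groth.L21.P1

open Groth.L18.PUP (P)
open Groth.L21.RR (h hk)
open Groth.L16.CohLinear (hmap hmap_comp hmap_id)

variable (k : Type u) [Field k]

/-- The structure of a scheme over the field. -/
instance overP : (P 1 k).Over (Spec (CommRingCat.of k)) := ⟨Groth.L18.PUP.pr 1 k⟩

instance isProper_over : IsProper (P 1 k ↘ Spec (CommRingCat.of k)) :=
  inferInstanceAs (IsProper (CohB1.ProjSpace.toSpec 1 k))

theorem isCoh_O (d : ℤ) : Coh.IsCoh (O k d) := by
  haveI := Groth.L21.RR.isNoetherian_of_proper (X := P 1 k) k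
  exact Groth.L16.ProperFinite.isCoh_of_isInvertible
    (Groth.L16.ProjTwist.isInvertible_twistProjSpace 1 k d)

theorem h_O (d : ℤ) : h k 0 (O k d) = (d + 1).toNat ∧ h k 1 (O k d) = (-d - 1).toNat := by
  have hfin : ∀ m : ℕ,
      Module.finrank k ↥(MvPolynomial.homogeneousSubmodule (Fin (1 + 1)) k m) = m + 1 := fun m => by
    rw [(Groth.L03.PlanePoints.finrank_homogeneous (F := k) 1 m).2, Nat.choose_one_right]
  refine ⟨?_, ?_⟩
  · rcases le_or_gt 0 d with hd | hd
    · obtain ⟨m, rfl⟩ := Int.eq_ofNat_of_zero_le hd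
      obtain ⟨e⟩ := Groth.L16.ProjSpace.nonempty_H0_twist_linearEquiv 1 k m
      refine e.finrank_eq.trans ((hfin m).trans ?_)
      omega
    · haveI : Subsingleton (Coh.HH (P 1 k) (O k d) 0) :=
        Groth.L16.ProjSpace.subsingleton_HH_twist 1 k d 0 (by omega) (by omega)
      show Module.finrank k (Coh.HH (P 1 k) (O k d) 0) = _
      rw [Module.finrank_zero_of_subsingleton]
      omega
  · rcases le_or_gt d (-2) with hd | hd
    · obtain ⟨m, hm⟩ := Int.eq_ofNat_of_zero_le (show 0 ≤ -d - 2 by omega)
      obtain rfl : d = -(((1 : ℕ) : ℤ) + 1 + m) := by omega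
      obtain ⟨e⟩ := Groth.L16.ProjSpace.nonempty_HH_top_linearEquiv 1 m k
      refine e.finrank_eq.trans ((hfin m).trans ?_)
      omega
    · haveI : Subsingleton (Coh.HH (P 1 k) (O k d) 1) :=
        Groth.L16.ProjSpace.subsingleton_HH_twist 1 k d 1 (by omega) (by omega)
      show Module.finrank k (Coh.HH (P 1 k) (O k d) 1) = _
      rw [Module.finrank_zero_of_subsingleton]
      omega

theorem topologicalKrullDim_le : topologicalKrullDim (P 1 k) ≤ 1 := by
  rw [show topologicalKrullDim (P 1 k) = topologicalKrullDim (CohB1.ProjSpace 1 k) from rfl,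
    Groth.L16.ProjSpace.topologicalKrullDim_eq_of_field 1 k]
  norm_num

theorem h_sumO {r : ℕ} (d : Fin r → ℤ) (p : ℕ) : h k p (sumO k d) = ∑ l, h k p (O k (d l)) := by
  classical
  let f : Coh.HH (P 1 k) (sumO k d) p →ₗ[k] ((l : Fin r) → Coh.HH (P 1 k) (O k (d l)) p) :=
    LinearMap.pi fun l => hk k (biproduct.π (fun l : Fin r => O k (d l)) l) p
  let g : ((l : Fin r) → Coh.HH (P 1 k) (O k (d l)) p) →ₗ[k] Coh.HH (P 1 k) (sumO k d) p :=
    ∑ l, (hk k (biproduct.ι (fun l : Fin r => O k (d l)) l) p).comp (LinearMap.proj l)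
  have hfg : f.comp g = LinearMap.id := by
    refine LinearMap.ext fun x => funext fun m => ?_
    show hmap _ p (g x) = x m
    simp only [g, LinearMap.coe_sum, Finset.sum_apply, LinearMap.coe_comp, Function.comp_apply, LinearMap.proj_apply]
    rw [map_sum, Finset.sum_eq_single m]
    · refine (hmap_comp _ _ p (x m)).symm.trans ?_
      rw [biproduct.ι_π_self]
      exact hmap_id p (x m)
    · intro l _ hl
      refine (hmap_comp _ _ p (x l)).symm.trans ?_
      rw [biproduct.ι_π_ne _ hl]
      exact Groth.L21.RR.hmap_zero _ _ p (x l)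
    · exact fun hm => (hm (Finset.mem_univ m)).elim
  have hgf : g.comp f = LinearMap.id := by
    refine LinearMap.ext fun x => ?_
    show g (f x) = x
    simp only [g, f, LinearMap.coe_sum, Finset.sum_apply, LinearMap.coe_comp, Function.comp_apply,
      LinearMap.proj_apply, LinearMap.pi_apply]
    refine Eq.trans ?_ ((congrArg (fun F => hmap F p x)
      (biproduct.total (f := fun l : Fin r => O k (d l)))).trans (hmap_id p x))
    rw [Groth.L21.RR.hmap_sum']
    exact Finset.sum_congr rfl fun l _ => (hmap_comp _ _ p x).symm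
  haveI : ∀ l, Module.Finite k (Coh.HH (P 1 k) (O k (d l)) p) := fun l =>
    Groth.L21.RR.finite_HH' k (isCoh_O k (d l)) p
  show Module.finrank k (Coh.HH (P 1 k) (sumO k d) p) = _
  rw [(LinearEquiv.ofLinearMap f g hfg hgf).finrank_eq, Module.finrank_pi_fintype]

theorem euler_O (d : ℤ) : Curv2.euler k (P 1 k) (O k d) = d + 1 := by
  rw [Groth.L21.RR.euler_eq k (topologicalKrullDim_le k), (h_O k d).1, (h_O k d).2]
  omega

end Groth.L21.P1
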