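import Groth.Agent.L22.Inter.PushProper
import Groth.Agent.L21.RR.Coh

/-!
Cohomology does not change along affine direct images.
-/

set_option autoImplicit false
set_option backward.isDefEq.respectTransparency false
set_option linter.style.haveILetI false
universe u

open CategoryTheory CategoryTheory.Limits AlgebraicGeometry TopologicalSpace Opposite

noncomputable section

namespace Groth.L21.P1

variable {X Y : Scheme.{u}} (k : Type u) [Field k] [X.Over (Spec (CommRingCat.of k))]
  [Y.Over (Spec (CommRingCat.of k))]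

theorem h_push_affine (f : X ⟶ Y) [IsAffineHom f] [Y.IsSeparated]
    (hf : f ≫ (Y ↘ Spec (CommRingCat.of k)) = X ↘ Spec (CommRingCat.of k)) (M : X.Modules) [Coh.IsQCoh M]
    (p : ℕ) : Groth.L21.RR.h k p ((Scheme.Modules.pushforward f).obj M) = Groth.L21.RR.h k p M := by
  haveI : Coh.IsQCoh ((Coh.push f).obj M) := Groth.L16.QcqsPush.isQCoh_push M f
  let V : Y.affineOpens → Y.Opens := fun U => U.1
  have hV : ∀ (n : ℕ) (a : Fin (n + 1) → Y.affineOpens), IsAffineOpen (⨅ j, V (a j)) :=
    fun n a => IsAffineOpen.iInf fun j => (a j).2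
  obtain ⟨e, he⟩ := Groth.L16.PushCompare.exists_HH_push f M V (iSup_affineOpens_eq_top Y)
    (fun n a q => subsingleton_of_forall_eq 0 (Groth.L17.hu_affine_eq_zero _ ((hV n a).preimage f) q))
    (fun n a q => subsingleton_of_forall_eq 0 (Groth.L17.hu_affine_eq_zero _ (hV n a) q)) p
  let e' : Coh.HH X M p ≃ₗ[k] Coh.HH Y ((Coh.push f).obj M) p :=
    { e with
      map_smul' := fun a x => by
        have h0 : Coh.toGlobal (X ↘ Spec (CommRingCat.of k)) a =
            (show Coh.Γtop X from f.appTop (Coh.toGlobal (Y ↘ Spec (CommRingCat.of k)) a)) :=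
          congrArg (fun g : X ⟶ Spec (CommRingCat.of k) => Coh.toGlobal g a) hf.symm
        exact (congrArg e (congrArg (fun c : Coh.Γtop X => c • x) h0)).trans
          (he (Coh.toGlobal (Y ↘ Spec (CommRingCat.of k)) a) x) }
  exact e'.finrank_eq.symm

theorem euler_push_affine (f : X ⟶ Y) [IsAffineHom f] [Y.IsSeparated]
    (hf : f ≫ (Y ↘ Spec (CommRingCat.of k)) = X ↘ Spec (CommRingCat.of k)) (M : X.Modules) [Coh.IsQCoh M] :
    Curv2.euler k Y ((Scheme.Modules.pushforward f).obj M) = Curv2.euler k X M :=
  finsum_congr fun p => by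
    rw [show Module.finrank k (Coh.HH Y ((Scheme.Modules.pushforward f).obj M) p) =
      Module.finrank k (Coh.HH X M p) from h_push_affine k f hf M p]

end Groth.L21.P1
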