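import Groth.Agent.L21.P1.DoubleCoverEq
import Groth.Agent.L21.Disc.SimplyConn
import Groth.Agent.L21.RR.GeomGenusZero
import Groth.Agent.L07.SyntKoszul
import Groth.Agent.L21.Curve.SmoothDescent
import Groth.Agent.L16.ProjSpace.TwistMul
import Groth.Agent.L16.CohSupport
import Groth.Agent.L16.NegPow.Gen
import Groth.Prelude.Def_FinCov

/-!
Consequences for smooth double covers of the projective line.
-/

set_option autoImplicit false
set_option backward.isDefEq.respectTransparency false
set_option linter.style.haveILetI false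
universe u

open CategoryTheory CategoryTheory.Limits AlgebraicGeometry TopologicalSpace Opposite IsLocalRing

noncomputable section

namespace Groth.L21.P1

open Groth.L18.PUP (P)
open Groth.L21.RR (h)

theorem euler_structure (k : Type u) [Field k] :
    Curv2.euler k (P 1 k) (Coh.structureModule (P 1 k)) = 1 := by
  obtain ⟨e⟩ := Groth.L16.ProjTwist.nonempty_twist_zero_iso (CohB1.polyGrading 1 k)
  rw [← Groth.L21.RR.euler_congr k e, euler_O k 0, zero_add]

theorem isSeparated_P (k : Type u) [Field k] : (P 1 k).IsSeparated := ⟨by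
  rw [terminal.comp_from (Groth.L18.PUP.pr 1 k) |>.symm]
  infer_instance⟩

variable {k : Type u} [Field k] {X : Scheme.{u}} [X.Over (Spec (CommRingCat.of k))]
  [IsProper (X ↘ Spec (CommRingCat.of k))]

theorem isPrincipal_of_smooth [Smooth (X ↘ Spec (CommRingCat.of k))] (hd : topologicalKrullDim X ≤ 1) (x : X) :
    (maximalIdeal (X.presheaf.stalk x)).IsPrincipal := by
  haveI := Groth.L07.SyntKoszul.isRegularLocalRing_of_smooth (X ↘ Spec (CommRingCat.of k)) x
  exact Groth.L21.SmoothDescent.isPrincipal_of_dim_le_one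
    ((Groth.L21.SmoothDescent.ringKrullDim_stalk_le x).trans hd)

variable (f : X ⟶ P 1 k) [IsFinite f] [Flat f]

theorem isFinLocFreeOfRank_push_two (hrk : ∀ y, f.finrank y = 2) :
    FlatMod.IsFinLocFreeOfRank 2 ((Scheme.Modules.pushforward f).obj (Coh.structureModule X)) := by
  haveI := Groth.L21.RR.isNoetherian_of_proper (X := P 1 k) k
  haveI : LocallyOfFinitePresentation f := inferInstance
  exact Groth.L27.Deg.isFinLocFreeOfRank_push f hrk

/-- The degree of the trace-zero part of a double cover. -/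
theorem deg_kernel_trace (h2 : (2 : k) ≠ 0) (hd : topologicalKrullDim X ≤ 1)
    (hf : f ≫ Groth.L18.PUP.pr 1 k = X ↘ Spec (CommRingCat.of k))
    (hrk : ∀ y, f.finrank y = 2) (h0 : h k 0 (Coh.structureModule X) = 1)
    (τ : (Scheme.Modules.pushforward f).obj (Coh.structureModule X) ⟶ Coh.structureModule (P 1 k))
    (hτ : FinCov.IsTraceHom f τ) :
    Curv2.deg k (P 1 k) (kernel τ) 1 = -((Curv2.genus k X : ℤ) + 1) := by
  haveI := Groth.L21.RR.isNoetherian_of_proper (X := X) k
  haveI := Groth.L21.RR.isNoetherian_of_proper (X := P 1 k) k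
  haveI := isSeparated_P k
  haveI : Coh.IsQCoh (Coh.structureModule X) := (Groth.L16.CohClosedPush.isCoh_structure (X := X)).1
  have hE := isFinLocFreeOfRank_push_two f hrk
  have hEF : FlatMod.IsFinLocFree ((Scheme.Modules.pushforward f).obj (Coh.structureModule X)) := fun y => by
    obtain ⟨W, hy, e⟩ := hE y
    exact ⟨W, 2, hy, e⟩
  have hEc := Groth.L16.NegPow.isCoh_of_isFinLocFree hEF
  have hOc := Groth.L16.CohClosedPush.isCoh_structure (X := P 1 k)
  haveI : Epi τ := by
    refine (Groth.L21.Mod.epi_iff_stalk_surjective τ).2 fun y v => ?_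
    obtain ⟨W, hy, ⟨e⟩⟩ := hE y
    obtain ⟨s, hs⟩ := Groth.L17.FinLocBases.exists_isBasis _ e
    have hc := Groth.L18.NormFree.isGoodBasis_of_isBasis hs
    have hyW : y ∈ W.ι ''ᵁ ⊤ := ⟨⟨y, hy⟩, trivial, rfl⟩
    obtain ⟨V₀, hyV₀, a₀, rfl⟩ := (Coh.structureModule (P 1 k)).presheaf.exists_germ_eq v
    obtain ⟨_, ⟨V, hV, rfl⟩, hyV, hVW⟩ := (P 1 k).isBasis_affineOpens.exists_subset_of_mem_open
      (show y ∈ V₀ ⊓ W.ι ''ᵁ ⊤ from ⟨hyV₀, hyW⟩) (V₀ ⊓ W.ι ''ᵁ ⊤).2
    letI := (f.app V).hom.toAlgebra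
    have hle : V ≤ W.ι ''ᵁ ⊤ := fun z hz => (hVW hz).2
    have hle₀ : V ≤ V₀ := fun z hz => (hVW hz).1
    obtain ⟨b, -⟩ := hc.basis (V := V) hle
    haveI : Module.Free Γ(P 1 k, V) Γ(X, f ⁻¹ᵁ V) := Module.Free.of_basis b
    haveI : Module.Finite Γ(P 1 k, V) Γ(X, f ⁻¹ᵁ V) := Module.Finite.of_basis b
    let a : Γ(P 1 k, V) := ((P 1 k).presheaf.map (homOfLE hle₀).op).hom a₀
    obtain ⟨t, ht⟩ : IsUnit (2 : Γ(P 1 k, V)) := by
      have := (isUnit_iff_ne_zero.2 h2).map
        (((P 1 k).presheaf.map (homOfLE (le_top : V ≤ ⊤)).op).hom.comp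
          (ProjUP.toGlobal (P 1 k ↘ Spec (CommRingCat.of k))))
      rwa [map_ofNat] at this
    let s' : Γ(X, f ⁻¹ᵁ V) := algebraMap Γ(P 1 k, V) Γ(X, f ⁻¹ᵁ V) (↑t⁻¹ * a)
    have hs' : (τ.val.app (op V)).hom s' = a := by
      rw [hτ V hV inferInstance inferInstance s', Algebra.trace_algebraMap_of_basis b, Fintype.card_fin,
        nsmul_eq_mul, Nat.cast_ofNat, ← ht, Units.mul_inv_cancel_left]
    refine ⟨((Scheme.Modules.pushforward f).obj (Coh.structureModule X)).presheaf.germ V y hyV s', ?_⟩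
    refine (Groth.L21.RR.st_germ τ hyV _).trans ?_
    rw [show τ.app V s' = a from hs']
    exact TopCat.Presheaf.germ_res_apply (Coh.structureModule (P 1 k)).presheaf (homOfLE hle₀) y hyV a₀
  have hS : (ShortComplex.mk (kernel.ι τ) τ (kernel.condition τ)).ShortExact :=
    { exact := ShortComplex.exact_of_f_is_kernel _ (kernelIsKernel τ) }
  haveI : Coh.IsQCoh (Coh.structureModule (P 1 k)) := hOc.1
  have hker := Groth.L16.CohSupport.isCoh_kernel hEc τ
  have he := Groth.L21.RR.euler_add k (topologicalKrullDim_le k) hS hker hEc hOc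
  have hpush : Curv2.euler k (P 1 k) ((Scheme.Modules.pushforward f).obj (Coh.structureModule X)) =
      Curv2.euler k X (Coh.structureModule X) := euler_push_affine k f hf _
  have hX : Curv2.euler k X (Coh.structureModule X) = 1 - (Curv2.genus k X : ℤ) := by
    rw [Groth.L21.RR.euler_eq k hd, h0]
    rfl
  have hdeg : Curv2.deg k (P 1 k) (kernel τ) 1 =
      Curv2.euler k (P 1 k) (kernel τ) - (1 : ℕ) * Curv2.euler k (P 1 k) (Coh.structureModule (P 1 k)) := rfl
  simp only [hpush, hX, euler_structure] at he hdeg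
  rw [hdeg]
  push_cast
  linarith

end Groth.L21.P1
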