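import Groth.Agent.L21.P1.DoubleCoverApply
import Groth.Agent.L17.ProjFormula
import Groth.Agent.L00.TensorColim
import Groth.Agent.L22.Inter.Push
import Groth.Agent.L16.ProjSpace.TwistMul

/-!
Pullbacks of twisting sheaves along covers of the projective line with split direct image.
-/

set_option autoImplicit false
set_option backward.isDefEq.respectTransparency false
set_option linter.style.haveILetI false
universe u

open CategoryTheory CategoryTheory.Limits AlgebraicGeometry TopologicalSpace Opposite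

noncomputable section

namespace Groth.L21.P1

open Groth.L18.PUP (P pr)
open Groth.L00.Tensor
open Groth.L21.RR (h)

variable (k : Type u) [Field k]

theorem exists_basicOpen_one (x : P 1 k) : ∃ s : CohB1.polyGrading 1 k 1,
    x ∈ Proj.basicOpen (CohB1.polyGrading 1 k) s.1 := by
  obtain ⟨i, hi⟩ := exists_U_mem k x
  exact ⟨⟨MvPolynomial.X i, Groth.L18.PS.X_mem 1 i⟩, hi⟩

/-- `O(m) ⊗ (⊕ O(d l)) ≅ ⊕ O(m + d l)`. -/
theorem nonempty_tensor_sumO (m : ℤ) {r : ℕ} (d : Fin r → ℤ) :
    Nonempty (CohB1.tensorMod (O k m) (sumO k d) ≅ sumO k fun l => m + d l) := by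
  have h := fun l => Groth.L16.ProjTwist.nonempty_tensor_twist_iso_one (CohB1.polyGrading 1 k)
    (exists_basicOpen_one k) m (d l)
  haveI : PreservesFiniteCoproducts (tensorLeftF (O k m)) :=
    ⟨fun n => preservesColimitsOfShape_of_equiv (Discrete.equivalence (Equiv.ulift : ULift.{u} (Fin n) ≃ Fin n))
      (tensorLeftF (O k m))⟩
  haveI : (tensorLeftF (O k m)).Additive :=
    haveI := preservesBinaryBiproducts_of_preservesBinaryCoproducts (tensorLeftF (O k m))
    Functor.additive_of_preservesBinaryBiproducts _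
  exact ⟨(tensorLeftF (O k m)).mapBiproduct _ ≪≫ biproduct.mapIso fun l => (h l).some⟩

variable {X : Scheme.{u}} [X.Over (Spec (CommRingCat.of k))] [IsProper (X ↘ Spec (CommRingCat.of k))]

/-- Cohomology of the pullback of `O(1) ^ r`. -/
theorem h_tensorPow_pullback_twist (f : X ⟶ P 1 k) [IsFinite f]
    (hf : f ≫ pr 1 k = X ↘ Spec (CommRingCat.of k)) {n : ℕ} (d : Fin n → ℤ)
    (θ : sumO k d ≅ (Scheme.Modules.pushforward f).obj (Coh.structureModule X)) (r p : ℕ) :
    h k p (CohB1.tensorPow ((Scheme.Modules.pullback f).obj (O k 1)) r) = ∑ l, h k p (O k (r + d l)) := by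
  haveI := Groth.L21.RR.isNoetherian_of_proper (X := X) k
  haveI := isSeparated_P k
  have hO : FlatMod.IsFinLocFree (O k (r : ℤ)) := Groth.L16.Existence.isFinLocFree_of_isInvertible
    (Groth.L16.ProjTwist.isInvertible_twistProjSpace 1 k _)
  obtain ⟨e⟩ := Groth.L16.ProjTwist.nonempty_twist_iso_tensorPow (CohB1.polyGrading 1 k) (exists_basicOpen_one k) r
  obtain ⟨t⟩ := nonempty_tensor_sumO k (r : ℤ) d
  let M := (Scheme.Modules.pullback f).obj (O k (r : ℤ))
  haveI : Coh.IsQCoh M := (Groth.L16.NegPow.isCoh_of_isFinLocFree (Groth.L29.LocFree.pullback f hO)).1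
  rw [Groth.L21.RR.h_congr k ((Groth.L18.Ample.pullPow f (O k 1) r).symm ≪≫
    (Scheme.Modules.pullback f).mapIso e.symm) p, ← h_push_affine k f hf M p,
    ← Groth.L21.RR.h_congr k (t.symm ≪≫ tensorIso (Iso.refl _) θ ≪≫
      @asIso _ _ _ _ (Groth.L17.ClosedPush.θ f (Coh.structureModule X) (O k (r : ℤ)))
        (Groth.L17.ProjFormula.isIso_θ f _ _ hO) ≪≫
      (Scheme.Modules.pushforward f).mapIso (tensorUnitRight M)) p, h_sumO]

end Groth.L21.P1
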