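import Groth.Agent.L21.P1.SepCover
import Groth.Agent.L21.P1.PullTwist
import Groth.Agent.L21.RR.Pencil

/-!
A base point free pencil of degree two on a smooth curve of positive genus is a separable double cover.
-/

set_option autoImplicit false
set_option backward.isDefEq.respectTransparency false
set_option linter.style.haveILetI false
universe u

open CategoryTheory CategoryTheory.Limits AlgebraicGeometry TopologicalSpace Opposite IsLocalRing

noncomputable section

namespace Groth.L21.P1

open Groth.L18.PUP (P pr)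
open Groth.L21.Disc (overMap)
open Groth.L21.RR (h)

section General

variable {X Y : Scheme.{u}} (f : X ⟶ Y)

/-- Separability on residue fields from separability of local rings which are fields. -/
theorem isSeparable_residue (x : X) (y : Y) (h : f x = y) (hy : IsField (Y.presheaf.stalk y))
    (hx : IsField (X.presheaf.stalk x))
    (hsep : letI := (overMap f x y h).toAlgebra
      Algebra.IsSeparable (Y.presheaf.stalk y) (X.presheaf.stalk x)) :
    letI := (f.residueFieldMap x).hom.toAlgebra
    Algebra.IsSeparable (Y.residueField (f x)) (X.residueField x) := by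
  subst h
  letI := hy.toField
  letI := hx.toField
  have key : ∀ ψ : Y.presheaf.stalk (f x) →+* X.presheaf.stalk x, (f.stalkMap x).hom = ψ →
      (letI := ψ.toAlgebra; Algebra.IsSeparable (Y.presheaf.stalk (f x)) (X.presheaf.stalk x)) →
      (letI := (f.residueFieldMap x).hom.toAlgebra;
        Algebra.IsSeparable (Y.residueField (f x)) (X.residueField x)) := by
    rintro ψ rfl hs
    letI := (f.stalkMap x).hom.toAlgebra
    letI : Algebra (Y.residueField (f x)) (X.residueField x) := (f.residueFieldMap x).hom.toAlgebra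
    haveI := hs
    have hrY : Function.Bijective (Y.residue (f x)).hom :=
      ⟨(Y.residue (f x)).hom.injective, Y.residue_surjective (f x)⟩
    have hrX : Function.Bijective (X.residue x).hom :=
      ⟨(X.residue x).hom.injective, X.residue_surjective x⟩
    exact Algebra.IsSeparable.of_equiv_equiv (RingEquiv.ofBijective _ hrY) (RingEquiv.ofBijective _ hrX)
      (RingHom.ext fun a => congrArg (fun g => g.hom a) (Scheme.residue_residueFieldMap f x))
  exact key _ (Groth.L21.Disc.overMap_self f x).symm hsep

end General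

variable {k : Type u} [Field k] {X : Scheme.{u}} [X.Over (Spec (CommRingCat.of k))]
  [IsProper (X ↘ Spec (CommRingCat.of k))] [IsIntegral X] [Smooth (X ↘ Spec (CommRingCat.of k))]

/-- The degree of the pullback of `O(1)` is the rank. -/
theorem deg_pullback_O_one (f : X ⟶ P 1 k) [IsFinite f] (hd : topologicalKrullDim X ≤ 1)
    (hf : f ≫ pr 1 k = X ↘ Spec (CommRingCat.of k)) {n : ℕ}
    (hn : FlatMod.IsFinLocFreeOfRank n ((Scheme.Modules.pushforward f).obj (Coh.structureModule X))) :
    Curv2.deg k X ((Scheme.Modules.pullback f).obj (O k 1)) 1 = n := by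
  haveI := Groth.L21.RR.isNoetherian_of_proper (X := X) k
  obtain ⟨d, -, ⟨θ⟩⟩ := exists_splitting k hn
  have he : ∀ r : ℕ, Curv2.euler k X (CohB1.tensorPow ((Scheme.Modules.pullback f).obj (O k 1)) r) =
      ∑ l, ((r : ℤ) + d l + 1) := fun r => by
    rw [Groth.L21.RR.euler_eq k hd, h_tensorPow_pullback_twist k f hf d θ r 0,
      h_tensorPow_pullback_twist k f hf d θ r 1, Nat.cast_sum, Nat.cast_sum, ← Finset.sum_sub_distrib]
    refine Finset.sum_congr rfl fun l _ => ?_
    rw [(h_O k _).1, (h_O k _).2]
    omega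
  have h1 := (Groth.L21.RR.euler_congr k (Groth.L00.Tensor.tensorPowOne ((Scheme.Modules.pullback f).obj (O k 1)))).symm.trans (he 1)
  have hd' : Curv2.deg k X ((Scheme.Modules.pullback f).obj (O k 1)) 1 =
      Curv2.euler k X ((Scheme.Modules.pullback f).obj (O k 1)) -
        (1 : ℕ) * Curv2.euler k X (CohB1.tensorPow ((Scheme.Modules.pullback f).obj (O k 1)) 0) := rfl
  rw [hd', h1, he 0]
  simp [Finset.sum_add_distrib]

/-- A base point free pencil of degree two on a smooth curve of positive genus. -/
theorem exists_separable_double_cover (hd : topologicalKrullDim X = 1)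
    (h0 : h k 0 (Coh.structureModule X) = 1) (hg : 1 ≤ h k 1 (Coh.structureModule X)) {L : X.Modules}
    (hL : PicF.IsInvertible L) (hdeg : Curv2.deg k X L 1 = 2) (hL0 : h k 0 L = 2)
    (hgen : ∀ x : X, ∃ ψ : Coh.structureModule X ⟶ L, Function.Surjective (Groth.L21.RR.st ψ x)) :
    ∃ f : X ⟶ P 1 k, IsFinite f ∧ Flat f ∧ f ≫ pr 1 k = X ↘ Spec (CommRingCat.of k) ∧
      (∀ y, f.finrank y = 2) ∧
      FlatMod.IsFinLocFreeOfRank 2 ((Scheme.Modules.pushforward f).obj (Coh.structureModule X)) ∧
      Nonempty ((Scheme.Modules.pullback f).obj (O k 1) ≅ L) ∧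
      f.residueDegree (genericPoint X) = 2 ∧
      (letI := (f.residueFieldMap (genericPoint X)).hom.toAlgebra;
        Algebra.IsSeparable ((P 1 k).residueField (f (genericPoint X))) (X.residueField (genericPoint X))) := by
  haveI := Groth.L21.RR.isNoetherian_of_proper (X := X) k
  haveI := Groth.L21.RR.isNoetherian_of_proper (X := P 1 k) k
  obtain ⟨f, hfin, hf, ⟨τ⟩⟩ := Groth.L21.RR.exists_finite_hom_of_gen k hd.le hL (n := 1) hL0 (by omega) hgen
  haveI := hfin
  have hnX : ∀ x : X, IsDomain (X.presheaf.stalk x) ∧ IsIntegrallyClosed (X.presheaf.stalk x) := fun x =>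
    ⟨Groth.L21.Smooth.isDomain_stalk (X ↘ Spec (CommRingCat.of k)) x,
      Groth.L21.Smooth.isIntegrallyClosed_stalk (X ↘ Spec (CommRingCat.of k)) x⟩
  have hdom := map_genericPoint f hd
  haveI : Flat f := Groth.L21.flat_of_nonconstant (topologicalKrullDim_le k) normal_P1 f (by
    obtain ⟨x, -, hx⟩ := (isClosed_univ (X := X)).exists_closed_singleton Set.univ_nonempty
    refine ⟨_, ⟨genericPoint X, rfl⟩, _, ⟨x, rfl⟩, fun h => ?_⟩
    refine Groth.L21.RR.ne_genericPoint_of_isClosed topologicalKrullDim_eq ?_ (h.symm.trans hdom)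
    simpa using f.isClosedMap _ hx)
  obtain ⟨n, hn⟩ := Groth.L21.Disc.exists_rank_push f
  have h1 : Curv2.deg k X ((Scheme.Modules.pullback f).obj (O k 1)) 1 = Curv2.deg k X L 1 :=
    congrArg (· - (1 : ℕ) * Curv2.euler k X (Coh.structureModule X)) (Groth.L21.RR.euler_congr k τ)
  obtain rfl : n = 2 := by
    have := (deg_pullback_O_one f hd.le hf hn).symm.trans (h1.trans hdeg)
    omega
  obtain ⟨θ⟩ := exists_iso_push f hf hn h0
  obtain ⟨q⟩ := nonempty_quad f (a := h k 1 (Coh.structureModule X) + 1) (Nat.succ_pos _)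
    (eqToIso (by push_cast; rfl) ≪≫ θ)
  have hsep := isSeparable_of_two_ne_zero_or_Q_ne_zero hdom q (two_ne_zero_or_Q_ne_zero hf q (by omega))
  exact ⟨f, hfin, inferInstance, hf, fun y => Groth.L27.Deg.finrank_eq_of_push f hn y, hn, ⟨τ⟩,
    (Groth.L21.Disc.residueDegree_genericPoint f hdom).trans (Groth.L21.Disc.finrank_functionField f hnX hdom hsep hn),
    isSeparable_residue f (genericPoint X) (genericPoint (P 1 k)) hdom
      (Field.toIsField (P 1 k).functionField) (Field.toIsField X.functionField) hsep⟩

end Groth.L21.P1
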