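import Groth.Agent.L19.ProjBdl.Basis
import Mathlib.LinearAlgebra.Matrix.NonsingularInverse

/-!
Changes of bases of sections by matrices of functions.
-/

set_option autoImplicit false
set_option backward.isDefEq.respectTransparency false
set_option linter.style.haveILetI false
universe u

open CategoryTheory CategoryTheory.Limits AlgebraicGeometry TopologicalSpace Opposite

noncomputable section

namespace Groth.L21.P1

open Groth.L18.Frame (rs ro)
open Groth.L19.ProjBdl (IsBasisOn lc)

variable {X : Scheme.{u}} {M : X.Modules} {V : X.Opens} {r : ℕ}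

/-- The family with matrix `Q` in the family `b`. -/
def comb (b : Fin r → Γ(M, V)) (Q : Matrix (Fin r) (Fin r) Γ(X, V)) : Fin r → Γ(M, V) :=
  fun j => ∑ l, Q l j • b l

theorem comb_comb (b : Fin r → Γ(M, V)) (Q R : Matrix (Fin r) (Fin r) Γ(X, V)) :
    comb (comb b Q) R = comb b (Q * R) := by
  funext j
  simp only [comb, Finset.smul_sum, ← mul_smul, Matrix.mul_apply, Finset.sum_smul]
  rw [Finset.sum_comm]
  exact Finset.sum_congr rfl fun l _ => Finset.sum_congr rfl fun m _ => by rw [mul_comm]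

theorem comb_one (b : Fin r → Γ(M, V)) : comb b 1 = b := by
  funext j
  simp [comb, Matrix.one_apply]

theorem comb_diagonal (b : Fin r → Γ(M, V)) (c : Fin r → Γ(X, V)) :
    comb b (Matrix.diagonal c) = fun j => c j • b j := by
  funext j
  simp [comb, Matrix.diagonal_apply]

theorem rs_comb (b : Fin r → Γ(M, V)) (Q : Matrix (Fin r) (Fin r) Γ(X, V)) {W : X.Opens} (h : W ≤ V) :
    (fun j => rs M h (comb b Q j)) =
      comb (fun l => rs M h (b l)) (Q.map (X.presheaf.map (homOfLE h).op).hom) := by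
  funext j
  refine (Groth.L19.ProjBdl.rs_sum M h _ _).trans (Finset.sum_congr rfl fun l _ => ?_)
  rw [Groth.L18.Frame.rs_smul]
  rfl

theorem comb_injective {b : Fin r → Γ(M, V)} (hb : IsBasisOn M V b) {Q R : Matrix (Fin r) (Fin r) Γ(X, V)}
    (h : comb b Q = comb b R) : Q = R := by
  ext l j
  have h1 : lc M b le_rfl (fun l => Q l j) = lc M b le_rfl (fun l => R l j) := by
    simpa only [lc, comb, Groth.L18.Frame.rs_self] using congrFun h j
  exact congrFun ((hb V le_rfl).1 h1) l

theorem exists_comb {b : Fin r → Γ(M, V)} (hb : IsBasisOn M V b) (c : Fin r → Γ(M, V)) :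
    ∃ Q : Matrix (Fin r) (Fin r) Γ(X, V), comb b Q = c := by
  choose q hq using fun j => (hb V le_rfl).2 (c j)
  refine ⟨fun l j => q j l, funext fun j => ?_⟩
  simpa only [lc, comb, Groth.L18.Frame.rs_self] using hq j

theorem exists_isUnit_comb {b c : Fin r → Γ(M, V)} (hb : IsBasisOn M V b) (hc : IsBasisOn M V c) :
    ∃ Q : Matrix (Fin r) (Fin r) Γ(X, V), IsUnit Q ∧ comb b Q = c := by
  obtain ⟨Q, hQ⟩ := exists_comb hb c
  obtain ⟨R, hR⟩ := exists_comb hc b
  refine ⟨Q, ?_, hQ⟩
  have h : Q * R = 1 := comb_injective hb (by rw [← comb_comb, hQ, hR, comb_one])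
  exact ⟨⟨Q, R, h, mul_eq_one_comm.1 h⟩, rfl⟩

theorem isBasisOn_comb {b : Fin r → Γ(M, V)} (hb : IsBasisOn M V b) {Q : Matrix (Fin r) (Fin r) Γ(X, V)}
    (hQ : IsUnit Q) : IsBasisOn M V (comb b Q) := fun W h => by
  let Q' := Q.map (X.presheaf.map (homOfLE h).op).hom
  have hQ' : IsUnit Q' := hQ.map (RingHom.mapMatrix (X.presheaf.map (homOfLE h).op).hom)
  have hlc : lc M (comb b Q) h = lc M b h ∘ Q'.mulVec := by
    funext a
    show ∑ j, a j • rs M h (comb b Q j) = ∑ l, Q'.mulVec a l • rs M h (b l)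
    have e : ∀ j, rs M h (comb b Q j) = ∑ l, Q' l j • rs M h (b l) := fun j => congrFun (rs_comb b Q h) j
    simp only [e, Finset.smul_sum, ← mul_smul, Matrix.mulVec, dotProduct, Finset.sum_smul]
    rw [Finset.sum_comm]
    exact Finset.sum_congr rfl fun l _ => Finset.sum_congr rfl fun j _ => by rw [mul_comm]
  rw [hlc]
  exact (hb W h).comp ⟨Matrix.mulVec_injective_of_isUnit hQ', Matrix.mulVec_surjective_iff_isUnit.2 hQ'⟩

end Groth.L21.P1
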