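import Groth.Agent.L21.P1.Bases
import Groth.Agent.L21.P1.Comb
import Groth.Agent.L16.FrameIso
import Groth.Agent.S10849

/-!
Vector bundles on the projective line split into twisting sheaves.
-/

set_option autoImplicit false
set_option backward.isDefEq.respectTransparency false
set_option linter.style.haveILetI false
universe u

open CategoryTheory CategoryTheory.Limits AlgebraicGeometry TopologicalSpace Opposite

noncomputable section

namespace Groth.L21.P1

open Groth.L18.PUP (P)
open Groth.L18.Frame (rs ro IsFrame)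
open Groth.L19.ProjBdl (IsBasisOn lc app_rs app_lc)

variable (k : Type u) [Field k]

theorem exists_U_mem (x : P 1 k) : ∃ i : Fin 2, x ∈ U k i :=
  Opens.mem_iSup.1 ((Groth.L18.PS.iSup_chart (n := 1) (R := k)).ge (trivial : x ∈ (⊤ : (P 1 k).Opens)))

/-- A morphism out of `O(d)` from sections with the same transition. -/
theorem exists_hom_of_transition {E : (P 1 k).Modules} (d : ℤ) (s : ∀ i, Γ(E, U k i))
    (hs : rs E (inf_le_right : U01 k ≤ U k 1) (s 1) =
      ψ k (LaurentPolynomial.T d) • rs E (inf_le_left : U01 k ≤ U k 0) (s 0)) :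
    ∃ φ : O k d ⟶ E, ∀ i, φ.app (U k i) (tw k d i) = s i := by
  choose c hc using fun i j : ULift.{u} (Fin 2) =>
    ((isFrame_tw k d j.down).exists_coeff (inf_le_right : U k i.down ⊓ U k j.down ≤ U k j.down)
      (rs (O k d) inf_le_left (tw k d i.down)))
  refine (Groth.L16.FrameIso.exists_hom (fun i : ULift.{u} (Fin 2) => U k i.down)
    (fun i => tw k d i.down) (fun i => isFrame_tw k d i.down)
    (fun x => (exists_U_mem k x).imp' ULift.up fun i hi => hi) c (fun i j => (hc i j).symm)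
    (fun i => s i.down) (fun i j => ?_)).imp fun φ hφ i => hφ ⟨i⟩
  have h01 : rs E (inf_le_left : U k 0 ⊓ U k 1 ≤ U k 0) (s 0) =
      c ⟨0⟩ ⟨1⟩ • rs E (inf_le_right : U k 0 ⊓ U k 1 ≤ U k 1) (s 1) := by
    have h0 : c ⟨0⟩ ⟨1⟩ • rs (O k d) (inf_le_right : U k 0 ⊓ U k 1 ≤ U k 1) (tw k d 1) =
        rs (O k d) (inf_le_left : U k 0 ⊓ U k 1 ≤ U k 0) (tw k d 0) := hc ⟨0⟩ ⟨1⟩
    have h1 : c ⟨0⟩ ⟨1⟩ = ψ k (LaurentPolynomial.T (-d)) := by
      refine (isFrame_tw k d 1).inj inf_le_right (h0.trans ?_)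
      rw [← tw_transition k d, ← mul_smul, ← map_mul, ← LaurentPolynomial.T_add, neg_add_cancel,
        LaurentPolynomial.T_zero, map_one, one_smul]
    refine Eq.trans ?_ (congrArg (· • rs E (inf_le_right : U k 0 ⊓ U k 1 ≤ U k 1) (s 1)) h1.symm)
    beta_reduce
    rw [hs, ← mul_smul, ← map_mul, ← LaurentPolynomial.T_add, neg_add_cancel,
      LaurentPolynomial.T_zero, map_one, one_smul]
  have h10 : rs E (inf_le_left : U k 1 ⊓ U k 0 ≤ U k 1) (s 1) =
      c ⟨1⟩ ⟨0⟩ • rs E (inf_le_right : U k 1 ⊓ U k 0 ≤ U k 0) (s 0) := by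
    have hle : U k 1 ⊓ U k 0 ≤ U01 k := (inf_comm _ _).le
    have h0 : c ⟨1⟩ ⟨0⟩ • rs (O k d) (inf_le_right : U k 1 ⊓ U k 0 ≤ U k 0) (tw k d 0) =
        rs (O k d) (inf_le_left : U k 1 ⊓ U k 0 ≤ U k 1) (tw k d 1) := hc ⟨1⟩ ⟨0⟩
    have h2 := congrArg (rs (O k d) hle) (tw_transition k d)
    have h3 := congrArg (rs E hle) hs
    simp only [Groth.L18.Frame.rs_smul, Groth.L18.Frame.rs_rs] at h2 h3
    have h1 : c ⟨1⟩ ⟨0⟩ = ro hle (ψ k (LaurentPolynomial.T d)) :=
      (isFrame_tw k d 0).inj inf_le_right (h0.trans h2.symm)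
    exact h3.trans (congrArg (· • _) h1.symm)
  obtain ⟨i⟩ := i
  obtain ⟨j⟩ := j
  rcases eq_or_ne i j with rfl | hij
  · have h1 : c ⟨i⟩ ⟨i⟩ = 1 := (isFrame_tw k d i).inj inf_le_right ((hc ⟨i⟩ ⟨i⟩).trans (one_smul _ _).symm)
    rw [h1, one_smul]
  · fin_cases i <;> fin_cases j <;> first | exact absurd rfl hij | exact h01 | exact h10

variable {r : ℕ} (d : Fin r → ℤ)

/-- The sum of twisting sheaves. -/
abbrev sumO : (P 1 k).Modules := ⨁ fun l : Fin r => O k (d l)

/-- The frames of the summands. -/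
def stdBasis (i : Fin 2) (l : Fin r) : Γ(sumO k d, U k i) :=
  (biproduct.ι (fun l : Fin r => O k (d l)) l).app (U k i) (tw k (d l) i)

theorem π_stdBasis (i : Fin 2) (l m : Fin r) {V : (P 1 k).Opens} (h : V ≤ U k i) :
    (biproduct.π (fun l : Fin r => O k (d l)) m).app V (rs (sumO k d) h (stdBasis k d i l)) =
      if l = m then rs (O k (d m)) h (tw k (d m) i) else 0 := by
  rw [app_rs]
  have e : (biproduct.π (fun l : Fin r => O k (d l)) m).app (U k i) (stdBasis k d i l) =
      (biproduct.ι (fun l : Fin r => O k (d l)) l ≫ biproduct.π (fun l : Fin r => O k (d l)) m).app (U k i)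
        (tw k (d l) i) := rfl
  rw [e]
  by_cases hlm : l = m
  · subst hlm
    rw [if_pos rfl, biproduct.ι_π_self]
    rfl
  · rw [if_neg hlm, biproduct.ι_π_ne _ hlm]
    exact map_zero ((O k (d m)).presheaf.map (homOfLE h).op).hom

theorem isBasisOn_stdBasis (i : Fin 2) : IsBasisOn (sumO k d) (U k i) (stdBasis k d i) := by
  classical
  intro V h
  have hπ : ∀ (a : Fin r → Γ(P 1 k, V)) (m : Fin r),
      (biproduct.π (fun l : Fin r => O k (d l)) m).app V (lc (sumO k d) (stdBasis k d i) h a) =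
        a m • rs (O k (d m)) h (tw k (d m) i) := fun a m => by
    rw [lc, map_sum, Finset.sum_eq_single m]
    · rw [Scheme.Modules.Hom.app_smul, π_stdBasis, if_pos rfl]
    · intro l _ hl
      rw [Scheme.Modules.Hom.app_smul, π_stdBasis, if_neg hl, smul_zero]
    · exact fun hm => (hm (Finset.mem_univ m)).elim
  refine ⟨fun a b hab => funext fun m => (isFrame_tw k (d m) i).inj h ((hπ a m).symm.trans ?_), fun s => ?_⟩
  · rw [hab, hπ b m]
  · choose a ha using fun m => (isFrame_tw k (d m) i).exists_coeff h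
      ((biproduct.π (fun l : Fin r => O k (d l)) m).app V s)
    refine ⟨a, ?_⟩
    have htot := congr($(biproduct.total (f := fun l : Fin r => O k (d l))).app V s)
    rw [Groth.L17.FinLocBases.app_sum] at htot
    refine Eq.trans (Finset.sum_congr rfl fun m _ => ?_) htot
    show a m • rs (sumO k d) h (stdBasis k d i m) =
      (biproduct.ι (fun l : Fin r => O k (d l)) m).app V ((biproduct.π (fun l : Fin r => O k (d l)) m).app V s)
    rw [← ha m, Scheme.Modules.Hom.app_smul, app_rs]
    rfl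

theorem stdBasis_transition (l : Fin r) :
    rs (sumO k d) (inf_le_right : U01 k ≤ U k 1) (stdBasis k d 1 l) =
      ψ k (LaurentPolynomial.T (d l)) • rs (sumO k d) (inf_le_left : U01 k ≤ U k 0) (stdBasis k d 0 l) := by
  rw [stdBasis, stdBasis, ← app_rs, ← app_rs, ← tw_transition k (d l), Scheme.Modules.Hom.app_smul]

/-- Bases with diagonal transition give a splitting. -/
theorem nonempty_iso_sumO {E : (P 1 k).Modules} (b : ∀ i, Fin r → Γ(E, U k i))
    (hb : ∀ i, IsBasisOn E (U k i) (b i))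
    (htr : ∀ l, rs E (inf_le_right : U01 k ≤ U k 1) (b 1 l) =
      ψ k (LaurentPolynomial.T (d l)) • rs E (inf_le_left : U01 k ≤ U k 0) (b 0 l)) :
    Nonempty (sumO k d ≅ E) := by
  choose f hf using fun l => exists_hom_of_transition k (d l) (fun i => b i l) (htr l)
  let F : sumO k d ⟶ E := biproduct.desc f
  haveI : IsIso F := by
    refine Groth.L18.IsoCover.isIso_of_bijective F (U k) (exists_U_mem k) fun i V h => ?_
    have hF : ∀ l, F.app (U k i) (stdBasis k d i l) = b i l := fun l => by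
      show (biproduct.ι (fun l : Fin r => O k (d l)) l ≫ biproduct.desc f).app (U k i) (tw k (d l) i) = _
      rw [biproduct.ι_desc, hf]
    refine (Function.Bijective.of_comp_iff _ (isBasisOn_stdBasis k d i V h)).1 ?_
    have e : F.app V ∘ lc (sumO k d) (stdBasis k d i) h = lc E (b i) h := funext fun a => by
      show F.app V (lc (sumO k d) (stdBasis k d i) h a) = _
      rw [app_lc, funext hF]
    rw [e]
    exact hb i V h
  exact ⟨asIso F⟩

/-- Existence of a splitting. -/
theorem exists_splitting {E : (P 1 k).Modules} (hE : FlatMod.IsFinLocFreeOfRank r E) :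
    ∃ d : Fin r → ℤ, Antitone d ∧ Nonempty (sumO k d ≅ E) := by
  choose b hb using exists_basis_chart k hE
  let c0 := fun l => rs E (inf_le_left : U01 k ≤ U k 0) (b 0 l)
  let c1 := fun l => rs E (inf_le_right : U01 k ≤ U k 1) (b 1 l)
  obtain ⟨M, hM, hc⟩ := exists_isUnit_comb ((hb 0).mono (inf_le_left : U01 k ≤ U k 0))
    ((hb 1).mono (inf_le_right : U01 k ≤ U k 1))
  obtain ⟨A, hA, rfl⟩ : ∃ A : Matrix (Fin r) (Fin r) (LaurentPolynomial k), IsUnit A ∧
      (ψ k).toRingHom.mapMatrix A = M := by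
    refine ⟨(ψ k).symm.toRingHom.mapMatrix M, hM.map _, ?_⟩
    ext a b
    simp
  obtain ⟨Pm, Qm, d, hP, hQ, hd, hA'⟩ := Groth.Agent.S10849.result k r A hA
  obtain ⟨Qu, rfl⟩ := hQ
  let Qi : Matrix (Fin r) (Fin r) (Polynomial k) := ↑Qu⁻¹
  let Ms : Fin 2 → Matrix (Fin r) (Fin r) (Polynomial k) := ![Pm, Qi]
  have hMs : ∀ i, IsUnit (Ms i) := fun i => by
    fin_cases i
    · exact hP
    · exact (Qu⁻¹).isUnit
  refine ⟨d, hd, nonempty_iso_sumO k d (fun i => comb (b i) ((φ k i).mapMatrix (Ms i)))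
    (fun i => isBasisOn_comb (hb i) ((hMs i).map _)) ?_⟩
  have e0 : (((φ k 0).mapMatrix Pm).map
      ((P 1 k).presheaf.map (homOfLE (inf_le_left : U01 k ≤ U k 0)).op).hom) =
      (ψ k).toRingHom.mapMatrix (Pm.map Polynomial.toLaurent) := by
    ext a b
    exact (ψ_toLaurent k (Pm a b)).symm
  have e1 : (((φ k 1).mapMatrix Qi).map
      ((P 1 k).presheaf.map (homOfLE (inf_le_right : U01 k ≤ U k 1)).op).hom) =
      (ψ k).toRingHom.mapMatrix ((Qi.map Polynomial.toLaurent).map LaurentPolynomial.invert) := by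
    ext a b
    exact (ψ_invert_toLaurent k (Qi a b)).symm
  have eQ : ((Qu : Matrix (Fin r) (Fin r) (Polynomial k)).map Polynomial.toLaurent).map LaurentPolynomial.invert *
      (Qi.map Polynomial.toLaurent).map LaurentPolynomial.invert = 1 := by
    let f := ((LaurentPolynomial.invert (R := k)).toRingEquiv.toRingHom.comp Polynomial.toLaurent).mapMatrix
      (m := Fin r)
    show f Qu * f Qi = 1
    rw [← map_mul]
    exact (congrArg f Qu.mul_inv).trans (map_one f)
  have key : comb c1 ((ψ k).toRingHom.mapMatrix ((Qi.map Polynomial.toLaurent).map LaurentPolynomial.invert)) =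
      comb (comb c0 ((ψ k).toRingHom.mapMatrix (Pm.map Polynomial.toLaurent)))
        ((ψ k).toRingHom.mapMatrix (Matrix.diagonal fun i => LaurentPolynomial.T (d i))) := by
    rw [show c1 = comb c0 ((ψ k).toRingHom.mapMatrix A) from hc.symm, comb_comb, comb_comb, ← map_mul, ← map_mul,
      hA', mul_assoc, eQ, mul_one]
  have hd' : (ψ k).toRingHom.mapMatrix (Matrix.diagonal fun i => LaurentPolynomial.T (d i)) =
      Matrix.diagonal fun i => ψ k (LaurentPolynomial.T (d i)) := Matrix.diagonal_map (map_zero _)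
  rw [hd', comb_diagonal] at key
  intro l
  refine (congrFun (rs_comb (b 1) _ _) l).trans ?_
  rw [show Ms 1 = Qi from rfl, e1, show Ms 0 = Pm from rfl]
  refine (congrFun key l).trans (congrArg (ψ k (LaurentPolynomial.T (d l)) • ·) ?_)
  rw [congrFun (rs_comb (b 0) ((φ k 0).mapMatrix Pm) inf_le_left) l, e0]

end Groth.L21.P1
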