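import Groth.Agent.L21.P1.DoubleCoverEq
import Mathlib.Algebra.MvPolynomial.Eval

/-!
The affine chart of a double cover as a plane curve, over the base field.
-/

set_option autoImplicit false
set_option backward.isDefEq.respectTransparency false
set_option linter.style.haveILetI false
universe u

open CategoryTheory CategoryTheory.Limits AlgebraicGeometry TopologicalSpace Opposite

noncomputable section

namespace Groth.L21.P1

open Groth.L18.PUP (P pr)

section Ring

variable {R : Type u} [CommRing R] (p q : Polynomial R)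

/-- The plane equation. -/
abbrev planeEqn : MvPolynomial (Fin 2) R :=
  MvPolynomial.X 1 ^ 2 + Polynomial.aeval (MvPolynomial.X 0) q * MvPolynomial.X 1 -
    Polynomial.aeval (MvPolynomial.X 0) p

/-- The coordinate ring of the plane curve as a quadratic extension of the polynomial ring. -/
theorem exists_planeEquiv {g : Polynomial (Polynomial R)}
    (hg : g = Polynomial.X ^ 2 + Polynomial.C q * Polynomial.X - Polynomial.C p) :
    ∃ e : (MvPolynomial (Fin 2) R ⧸ Ideal.span {planeEqn p q}) ≃+* AdjoinRoot g,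
      ∀ c : R, e (Ideal.Quotient.mk _ (MvPolynomial.C c)) = AdjoinRoot.of g (Polynomial.C c) := by
  classical
  let η : MvPolynomial (Fin 2) R →+* AdjoinRoot g :=
    MvPolynomial.eval₂Hom ((AdjoinRoot.of g).comp Polynomial.C) ![AdjoinRoot.of g Polynomial.X, AdjoinRoot.root g]
  have hη0 : η (MvPolynomial.X 0) = AdjoinRoot.of g Polynomial.X := MvPolynomial.eval₂Hom_X' _ _ _
  have hη1 : η (MvPolynomial.X 1) = AdjoinRoot.root g := MvPolynomial.eval₂Hom_X' _ _ _
  have hηC : ∀ c : R, η (MvPolynomial.C c) = AdjoinRoot.of g (Polynomial.C c) := fun c => MvPolynomial.eval₂Hom_C _ _ _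
  have hηp : ∀ r : Polynomial R, η (Polynomial.aeval (MvPolynomial.X 0) r) = AdjoinRoot.of g r := fun r => by
    rw [Polynomial.aeval_def, Polynomial.hom_eval₂, hη0]
    have : Polynomial.eval₂RingHom (η.comp (algebraMap R (MvPolynomial (Fin 2) R))) (AdjoinRoot.of g Polynomial.X) =
        AdjoinRoot.of g := by
      refine Polynomial.ringHom_ext (fun c => ?_) (by simp)
      simp only [Polynomial.coe_eval₂RingHom, Polynomial.eval₂_C, RingHom.comp_apply]
      exact hηC c
    exact congrArg (fun φ : Polynomial R →+* AdjoinRoot g => φ r) this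
  let ι := Ideal.Quotient.mk (Ideal.span {planeEqn p q})
  have hvan : ∀ a ∈ Ideal.span {planeEqn p q}, η a = 0 := by
    intro a ha
    obtain ⟨b, rfl⟩ := Ideal.mem_span_singleton'.1 ha
    have h : g.eval₂ (AdjoinRoot.of g) (AdjoinRoot.root g) = 0 := AdjoinRoot.eval₂_root _
    have h' : AdjoinRoot.root g ^ 2 + AdjoinRoot.of g q * AdjoinRoot.root g - AdjoinRoot.of g p = 0 := by
      rw [← h]; subst hg; simp
    rw [map_mul, map_sub, map_add, map_mul, map_pow, hη1, hηp, hηp, h', mul_zero]
  let F := Ideal.Quotient.lift (Ideal.span {planeEqn p q}) η hvan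
  let β : Polynomial R →+* MvPolynomial (Fin 2) R ⧸ Ideal.span {planeEqn p q} :=
    ι.comp (Polynomial.aeval (MvPolynomial.X (0 : Fin 2))).toRingHom
  have hroot : g.eval₂ β (ι (MvPolynomial.X 1)) = 0 := by
    rw [hg]
    simp only [Polynomial.eval₂_sub, Polynomial.eval₂_add, Polynomial.eval₂_X_pow, Polynomial.eval₂_mul,
      Polynomial.eval₂_C, Polynomial.eval₂_X]
    simp only [β, RingHom.comp_apply, AlgHom.toRingHom_eq_coe, RingHom.coe_coe]
    rw [← map_pow, ← map_mul, ← map_add, ← map_sub]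
    exact Ideal.Quotient.eq_zero_iff_mem.2 (Ideal.subset_span rfl)
  let G := AdjoinRoot.lift β (ι (MvPolynomial.X 1)) hroot
  have hFG : F.comp G = RingHom.id _ := by
    refine RingHom.ext fun z => ?_
    induction z using AdjoinRoot.induction_on with
    | ih w =>
      have e : ((F.comp G).comp (AdjoinRoot.mk g)) = AdjoinRoot.mk g := by
        refine Polynomial.ringHom_ext (fun r => ?_) ?_
        · show F (G (AdjoinRoot.mk g (Polynomial.C r))) = _
          rw [AdjoinRoot.mk_C]
          simp only [G, AdjoinRoot.lift_of, β, RingHom.comp_apply, AlgHom.toRingHom_eq_coe, RingHom.coe_coe]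
          exact hηp r
        · show F (G (AdjoinRoot.mk g Polynomial.X)) = _
          rw [AdjoinRoot.mk_X]
          simp only [G, AdjoinRoot.lift_root]
          exact hη1
      exact congrArg (fun φ : Polynomial (Polynomial R) →+* AdjoinRoot g => φ w) e
  have hGF : G.comp F = RingHom.id _ := by
    refine Ideal.Quotient.ringHom_ext (MvPolynomial.ringHom_ext (fun c => ?_) fun j => ?_)
    · show G (η (MvPolynomial.C c)) = ι (MvPolynomial.C c)
      rw [hηC]
      simp [G, β, ι]
    · show G (η (MvPolynomial.X j)) = ι (MvPolynomial.X j)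
      fin_cases j
      · show G (η (MvPolynomial.X 0)) = ι (MvPolynomial.X 0)
        rw [hη0]
        simp [G, β, ι]
      · show G (η (MvPolynomial.X 1)) = ι (MvPolynomial.X 1)
        rw [hη1]
        simp [G]
  exact ⟨RingEquiv.ofRingHom F G hFG hGF, fun c => hηC c⟩

end Ring

variable {k : Type u} [Field k] {X : Scheme.{u}} {f : X ⟶ P 1 k} [IsAffineHom f] {a : ℕ}

/-- The first chart of a double cover is a plane curve over the base field. -/
theorem exists_iso_chart (q : Quad f a) :
    ∃ e : (↑(f ⁻¹ᵁ U k 0) : Scheme.{u}) ≅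
        Spec (CommRingCat.of (MvPolynomial (Fin 2) k ⧸ Ideal.span {planeEqn (q.P 0) (q.Q 0)})),
      e.hom ≫ Spec.map (CommRingCat.ofHom ((Ideal.Quotient.mk (Ideal.span {planeEqn (q.P 0) (q.Q 0)})).comp
        (MvPolynomial.C : k →+* MvPolynomial (Fin 2) k))) = (f ⁻¹ᵁ U k 0).ι ≫ f ≫ pr 1 k := by
  obtain ⟨χ, hχ⟩ := exists_planeEquiv (q.P 0) (q.Q 0) (g := eqn q 0) rfl
  have hU : IsAffineOpen (f ⁻¹ᵁ U k 0) :=
    (Proj.isAffineOpen_basicOpen _ _ (Groth.L18.PS.X_mem 1 0) one_pos).preimage f
  let ψ : CommRingCat.of (MvPolynomial (Fin 2) k ⧸ Ideal.span {planeEqn (q.P 0) (q.Q 0)}) ≅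
      Γ(X, f ⁻¹ᵁ U k 0) := (χ.trans (chartEquiv q 0)).toCommRingCatIso
  refine ⟨hU.isoSpec ≪≫ asIso (Spec.map ψ.hom), ?_⟩
  rw [Iso.trans_hom, asIso_hom, Category.assoc, ← Spec.map_comp, ← hU.isoSpec_hom_fromSpec_assoc,
    Groth.L18.PUP.toGlobal_fromSpec (f ≫ pr 1 k) hU]
  congr 2
  refine CommRingCat.hom_ext (RingHom.ext fun c => ?_)
  show chartEquiv q 0 (χ (Ideal.Quotient.mk _ (MvPolynomial.C c))) = _
  rw [hχ]
  simp only [chartEquiv, RingEquiv.ofBijective_apply, chartMap, AdjoinRoot.lift_of]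
  show f.app (U k 0) (φ k 0 (Polynomial.C c)) = _
  rw [φ_C]
  exact (app_res f le_top (ProjUP.toGlobal (pr 1 k) c)).symm.trans rfl

end Groth.L21.P1
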