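import Groth.Agent.L21.P1.DoubleCoverApply
import Groth.Agent.L21.P1.HypChart
import Groth.Agent.L21.Disc.HurwitzOmega
import Groth.Agent.L21.Disc.Hurwitz
import Groth.Agent.L19.GenericFinite
import Mathlib.FieldTheory.IntermediateField.Adjoin.Basic
import Mathlib.FieldTheory.Separable
import Groth.Prelude.Def_Curv2

/-!
The function field of a double cover of the projective line.
-/

set_option autoImplicit false
set_option backward.isDefEq.respectTransparency false
set_option linter.style.haveILetI false
universe u

open CategoryTheory CategoryTheory.Limits AlgebraicGeometry TopologicalSpace Opposite IsLocalRing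

noncomputable section

namespace Groth.L21.P1

open Groth.L18.PUP (P pr)
open Groth.L21.Disc (overMap overMap_germ)

section General

variable {X Y : Scheme.{u}} (f : X ⟶ Y)

/-- Separability of residue fields at points with fields as local rings. -/
theorem isSeparable_overMap (x : X) (y : Y) (h : f x = y) (hy : IsField (Y.presheaf.stalk y))
    (hx : IsField (X.presheaf.stalk x))
    (hsep : letI := (f.residueFieldMap x).hom.toAlgebra
      Algebra.IsSeparable (Y.residueField (f x)) (X.residueField x)) :
    letI := (overMap f x y h).toAlgebra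
    Algebra.IsSeparable (Y.presheaf.stalk y) (X.presheaf.stalk x) := by
  subst h
  letI := hy.toField
  letI := hx.toField
  have key : ∀ ψ : Y.presheaf.stalk (f x) →+* X.presheaf.stalk x, (f.stalkMap x).hom = ψ →
      (letI := ψ.toAlgebra; Algebra.IsSeparable (Y.presheaf.stalk (f x)) (X.presheaf.stalk x)) := by
    rintro ψ rfl
    letI := (f.stalkMap x).hom.toAlgebra
    letI : Algebra (Y.residueField (f x)) (X.residueField x) := (f.residueFieldMap x).hom.toAlgebra
    haveI := hsep
    have hrY : Function.Bijective (Y.residue (f x)).hom :=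
      ⟨(Y.residue (f x)).hom.injective, Y.residue_surjective (f x)⟩
    have hrX : Function.Bijective (X.residue x).hom :=
      ⟨(X.residue x).hom.injective, X.residue_surjective x⟩
    let eY := RingEquiv.ofBijective _ hrY
    let eX := RingEquiv.ofBijective _ hrX
    refine Algebra.IsSeparable.of_equiv_equiv eY.symm eX.symm (RingHom.ext fun a => ?_)
    obtain ⟨b, rfl⟩ := eY.surjective a
    refine eX.injective ?_
    simp only [RingHom.comp_apply, RingHom.coe_coe, RingEquiv.symm_apply_apply, RingEquiv.apply_symm_apply]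
    exact (congrArg (fun g => g.hom b) (Scheme.residue_residueFieldMap f x))
  exact key _ (Groth.L21.Disc.overMap_self f x).symm

end General

variable {k : Type u} [Field k] {X : Scheme.{u}} [X.Over (Spec (CommRingCat.of k))]
  [IsProper (X ↘ Spec (CommRingCat.of k))] [IsIntegral X] (f : X ⟶ P 1 k) [IsFinite f]

instance isIntegral_P1 : IsIntegral (P 1 k) := Groth.L16.ProjSpace.isIntegral (n := 1) (R := k)

theorem topologicalKrullDim_eq : topologicalKrullDim (P 1 k) = 1 := by
  rw [show topologicalKrullDim (P 1 k) = topologicalKrullDim (CohB1.ProjSpace 1 k) from rfl,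
    Groth.L16.ProjSpace.topologicalKrullDim_eq_of_field 1 k]
  norm_num

theorem normal_P1 (y : P 1 k) :
    IsDomain ((P 1 k).presheaf.stalk y) ∧ IsIntegrallyClosed ((P 1 k).presheaf.stalk y) := by
  haveI : Smooth (pr 1 k) := Groth.L16.ProjSpace.smooth_toSpec (n := 1) (R := k)
  exact ⟨Groth.L21.Smooth.isDomain_stalk (pr 1 k) y, Groth.L21.Smooth.isIntegrallyClosed_stalk (pr 1 k) y⟩

omit [X.Over (Spec (CommRingCat.of k))] [IsProper (X ↘ Spec (CommRingCat.of k))] in
/-- A finite morphism of a curve to the line is dominant. -/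
theorem map_genericPoint (hd : topologicalKrullDim X = 1) [CompactSpace X] :
    f (genericPoint X) = genericPoint (P 1 k) := by
  by_contra hne
  have hcl : IsClosed ({f (genericPoint X)} : Set (P 1 k)) := by
    by_contra h
    exact hne (Groth.L21.RR.eq_genericPoint_of_not_isClosed (topologicalKrullDim_le k) h)
  obtain ⟨x, -, hx⟩ := (isClosed_univ (X := X)).exists_closed_singleton Set.univ_nonempty
  have hsp := (genericPoint_spec X).specializes (y := x) trivial
  have hfx : f x = f (genericPoint X) := by
    have := (hsp.map f.continuous).mem_closed hcl rfl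
    exact this
  have := Groth.L19.GenericFinite.eq_of_specializes_of_quasiFiniteAt f
    (Groth.L19.GenericFinite.quasiFiniteAt_of_finite_fibre f _ (f.finite_preimage_singleton _)) hsp hfx.symm
  exact Groth.L21.RR.ne_genericPoint_of_isClosed hd hx this.symm

/-- A finite separable morphism of degree two from a normal curve to the line. -/
theorem rank_two_of_residueDegree (hd : topologicalKrullDim X = 1)
    (hnX : ∀ x : X, IsDomain (X.presheaf.stalk x) ∧ IsIntegrallyClosed (X.presheaf.stalk x))
    (hdeg : f.residueDegree (genericPoint X) = 2)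
    (hsep : letI := (f.residueFieldMap (genericPoint X)).hom.toAlgebra
      Algebra.IsSeparable ((P 1 k).residueField (f (genericPoint X))) (X.residueField (genericPoint X))) :
    ∃ hdom : f (genericPoint X) = genericPoint (P 1 k),
      FlatMod.IsFinLocFreeOfRank 2 ((Scheme.Modules.pushforward f).obj (Coh.structureModule X)) ∧
      (letI := (overMap f (genericPoint X) (genericPoint (P 1 k)) hdom).toAlgebra;
        Algebra.IsSeparable (P 1 k).functionField X.functionField) := by
  haveI := Groth.L21.RR.isNoetherian_of_proper (X := X) k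
  haveI := Groth.L21.RR.isNoetherian_of_proper (X := P 1 k) k
  have hdom := map_genericPoint f hd
  have hsep' := isSeparable_overMap f (genericPoint X) (genericPoint (P 1 k)) hdom
    (Field.toIsField (P 1 k).functionField) (Field.toIsField X.functionField) hsep
  haveI : Flat f := Groth.L21.flat_of_nonconstant (topologicalKrullDim_le k) normal_P1 f (by
    obtain ⟨x, -, hx⟩ := (isClosed_univ (X := X)).exists_closed_singleton Set.univ_nonempty
    refine ⟨_, ⟨genericPoint X, rfl⟩, _, ⟨x, rfl⟩, fun h => ?_⟩
    refine Groth.L21.RR.ne_genericPoint_of_isClosed topologicalKrullDim_eq ?_ (h.symm.trans hdom)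
    simpa using f.isClosedMap _ hx)
  obtain ⟨n, hn⟩ := Groth.L21.Disc.exists_rank_push f
  have h2 : n = 2 := by
    rw [← hdeg, Groth.L21.Disc.residueDegree_genericPoint f hdom,
      Groth.L21.Disc.finrank_functionField f hnX hdom hsep' hn]
  exact ⟨hdom, h2 ▸ hn, hsep'⟩

variable {f} {a : ℕ}

/-- Completing the square. -/
theorem exists_shift (h2 : (2 : k) ≠ 0) (q : Quad f a) : ∃ q' : Quad f a, ∀ i, q'.Q i = 0 := by
  let c : k := (2 : k)⁻¹
  have hc : (2 : Polynomial k) * Polynomial.C c = 1 := by
    rw [show (2 : Polynomial k) = Polynomial.C 2 from (map_ofNat Polynomial.C 2).symm, ← Polynomial.C_mul,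
      mul_inv_cancel₀ h2, Polynomial.C_1]
  refine ⟨{
    y := fun i => q.y i + pol f i (Polynomial.C c * q.Q i)
    P := fun i => q.P i + (Polynomial.C c * q.Q i) ^ 2
    Q := fun _ => 0
    bij := fun i => ?_
    rel := fun i => ?_
    transP := ?_
    transQ := by simp
    transy := ?_ }, fun _ => rfl⟩
  · have e : (fun p : Polynomial k × Polynomial k =>
        pol f i p.1 + pol f i p.2 * (q.y i + pol f i (Polynomial.C c * q.Q i))) =
        (fun p : Polynomial k × Polynomial k => pol f i p.1 + pol f i p.2 * q.y i) ∘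
          fun p => (p.1 + p.2 * (Polynomial.C c * q.Q i), p.2) := funext fun p => by
      simp only [Function.comp_apply, map_add, map_mul]; ring
    rw [e]
    refine (q.bij i).comp ⟨fun p p' h => ?_, fun v => ⟨(v.1 - v.2 * (Polynomial.C c * q.Q i), v.2), ?_⟩⟩
    · have h2 := congrArg Prod.snd h
      have h1 := congrArg Prod.fst h
      dsimp only at h1 h2
      rw [h2, add_left_inj] at h1
      exact Prod.ext h1 h2
    · ext1 <;> simp
  · rw [map_zero, zero_mul, add_zero, map_add, map_pow, ← q.rel i]
    have hQ : pol f i (q.Q i) = 2 * pol f i (Polynomial.C c * q.Q i) := by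
      rw [← map_ofNat (pol f i) 2, ← map_mul, ← mul_assoc, hc, one_mul]
    rw [hQ]; ring
  · rw [map_add, mul_add, q.transP]
    simp only [map_add, map_pow, map_mul, ← q.transQ, Polynomial.toLaurent_C, LaurentPolynomial.invert_C]
    rw [show (-((2 * a : ℕ) : ℤ)) = -(a : ℤ) + -(a : ℤ) by push_cast; ring, LaurentPolynomial.T_add]
    ring
  · rw [map_add, q.transy, res_pol_one, map_add, res_pol_zero, mul_add, ← map_mul]
    congr 2
    simp only [map_mul, ← q.transQ, Polynomial.toLaurent_C, LaurentPolynomial.invert_C]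
    ring

attribute [local instance] Curv2.stalkAlgebra

/-- The function field of a double cover is generated by the coordinate and the root of the equation. -/
theorem exists_generators (hf : f ≫ pr 1 k = X ↘ Spec (CommRingCat.of k))
    (hdom : f (genericPoint X) = genericPoint (P 1 k))
    (hsep : letI := (overMap f (genericPoint X) (genericPoint (P 1 k)) hdom).toAlgebra
      Algebra.IsSeparable (P 1 k).functionField X.functionField) (q : Quad f a) :
    ∃ t y : X.functionField,
      IntermediateField.adjoin k ({t, y} : Set X.functionField) = ⊤ ∧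
      Module.finrank (IntermediateField.adjoin k ({t} : Set X.functionField)) X.functionField = 2 ∧
      Algebra.IsSeparable (IntermediateField.adjoin k ({t} : Set X.functionField)) X.functionField ∧
      y ^ 2 + Polynomial.aeval t (q.Q 0) * y = Polynomial.aeval t (q.P 0) := by
  classical
  have hU0 : IsAffineOpen (U k 0) := Proj.isAffineOpen_basicOpen _ _ (Groth.L18.PS.X_mem 1 0) one_pos
  have hW : IsAffineOpen (f ⁻¹ᵁ U k 0) := hU0.preimage f
  have hne : Nonempty (U k 0) := by
    by_contra h
    rw [not_nonempty_iff] at h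
    haveI : Subsingleton Γ(P 1 k, U k 0) := subsingleton_of_forall_eq 0 fun z =>
      TopCat.Presheaf.section_ext (P 1 k).sheaf _ z 0 fun x hx => (h.false ⟨x, hx⟩).elim
    exact zero_ne_one (α := Polynomial k) ((φ_bijective k 0).1 (Subsingleton.elim _ _))
  obtain ⟨⟨x₀, hx₀⟩⟩ := hne
  have hηP : genericPoint (P 1 k) ∈ U k 0 :=
    (genericPoint_spec (P 1 k)).mem_open_set_iff (U k 0).2 |>.2 ⟨x₀, trivial, hx₀⟩
  have hη : genericPoint X ∈ f ⁻¹ᵁ U k 0 := show f (genericPoint X) ∈ U k 0 from hdom.symm ▸ hηP
  haveI : Nonempty (U k 0) := ⟨⟨_, hηP⟩⟩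
  haveI : Nonempty (f ⁻¹ᵁ U k 0 : X.Opens) := ⟨⟨_, hη⟩⟩
  haveI := functionField_isFractionRing_of_isAffineOpen (P 1 k) (U k 0) hU0
  haveI := functionField_isFractionRing_of_isAffineOpen X (f ⁻¹ᵁ U k 0) hW
  let γ : Γ(X, f ⁻¹ᵁ U k 0) →+* X.functionField := (X.presheaf.germ (f ⁻¹ᵁ U k 0) (genericPoint X) hη).hom
  have hγ : Function.Injective γ := germ_injective_of_isIntegral X (genericPoint X) hη
  let t : X.functionField := γ (pol f 0 Polynomial.X)
  let y : X.functionField := γ (q.y 0)
  have hC : ∀ c : k, γ (pol f 0 (Polynomial.C c)) = algebraMap k X.functionField c := fun c => by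
    show γ (f.app (U k 0) (φ k 0 (Polynomial.C c))) = _
    rw [φ_C]
    refine (congrArg γ (app_res f le_top (ProjUP.toGlobal (pr 1 k) c)).symm).trans ?_
    refine (TopCat.Presheaf.germ_res_apply X.presheaf (homOfLE le_top) _ hη _).trans ?_
    show _ = (X.presheaf.germ ⊤ (genericPoint X) trivial) (Coh.toGlobal (X ↘ Spec (CommRingCat.of k)) c)
    rw [← hf]
    rfl
  have haev : ∀ p, Polynomial.aeval t p = γ (pol f 0 p) := fun p => by
    refine congrArg (fun g : Polynomial k →+* X.functionField => g p)
      (Polynomial.ringHom_ext (f := (Polynomial.aeval t).toRingHom) (g := γ.comp (pol f 0)) (fun c => ?_) ?_)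
    · exact (Polynomial.aeval_C t c).trans (hC c).symm
    · exact Polynomial.aeval_X t
  have hrep : ∀ z : Γ(X, f ⁻¹ᵁ U k 0), ∃ p : Polynomial k × Polynomial k,
      γ z = Polynomial.aeval t p.1 + Polynomial.aeval t p.2 * y := fun z => by
    obtain ⟨p, hp⟩ := (q.bij 0).2 z
    exact ⟨p, by rw [← hp, map_add, map_mul, haev, haev]⟩
  have hzero : ∀ p1 p2 : Polynomial k, Polynomial.aeval t p1 + Polynomial.aeval t p2 * y = 0 → p1 = 0 ∧ p2 = 0 :=
    fun p1 p2 h => by
    rw [haev, haev, ← map_mul, ← map_add, map_eq_zero_iff γ hγ] at h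
    have := (q.bij 0).1 (a₁ := (p1, p2)) (a₂ := (0, 0)) (by simpa using h)
    exact ⟨congrArg Prod.fst this, congrArg Prod.snd this⟩
  have hrel : y ^ 2 + Polynomial.aeval t (q.Q 0) * y = Polynomial.aeval t (q.P 0) := by
    rw [haev, haev, ← q.rel 0, map_add, map_pow, map_mul]
  set F := IntermediateField.adjoin k ({t} : Set X.functionField)
  have hmemF : ∀ p : Polynomial k, Polynomial.aeval t p ∈ F := fun p =>
    IntermediateField.mem_adjoin_simple_iff k _ |>.2 ⟨p, 1, by simp⟩
  have hdiv : ∀ z : X.functionField, ∃ c0 c1 : F, z = (c0 : X.functionField) + c1 * y := fun z => by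
    obtain ⟨u, v, hv, hz⟩ := IsFractionRing.div_surjective (A := Γ(X, f ⁻¹ᵁ U k 0)) z
    have hz' : γ u / γ v = z := hz
    have hv0 : γ v ≠ 0 := (map_ne_zero_iff γ hγ).2 (nonZeroDivisors.ne_zero hv)
    obtain ⟨⟨a1, a2⟩, hu⟩ := hrep u
    obtain ⟨⟨b1, b2⟩, hvv⟩ := hrep v
    let N : Polynomial k := b1 * b1 - b1 * b2 * q.Q 0 - b2 * b2 * q.P 0
    have hconj : γ v * (Polynomial.aeval t (b1 - b2 * q.Q 0) - Polynomial.aeval t b2 * y) =
        Polynomial.aeval t N := by
      simp only [hvv, N, map_sub, map_mul]
      linear_combination (-(Polynomial.aeval t b2) ^ 2) * hrel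
    have hne0 : Polynomial.aeval t (b1 - b2 * q.Q 0) - Polynomial.aeval t b2 * y ≠ 0 := fun h => by
      obtain ⟨h1, h2⟩ := hzero (b1 - b2 * q.Q 0) (-b2) (by rw [map_neg, neg_mul, ← sub_eq_add_neg, h])
      rw [neg_eq_zero] at h2
      rw [h2, zero_mul, sub_zero] at h1
      rw [hvv, h1, h2] at hv0
      simp at hv0
    have hN : Polynomial.aeval t N ≠ 0 := hconj ▸ mul_ne_zero hv0 hne0
    refine ⟨⟨_, div_mem (hmemF (a1 * (b1 - b2 * q.Q 0) - a2 * b2 * q.P 0)) (hmemF N)⟩,
      ⟨_, div_mem (hmemF (a2 * (b1 - b2 * q.Q 0) - a1 * b2 + a2 * b2 * q.Q 0)) (hmemF N)⟩, ?_⟩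
    rw [← hz', ← mul_div_mul_right (γ u) (γ v) hne0, hconj, hu, div_mul_eq_mul_div, ← add_div]
    congr 1
    simp only [map_sub, map_mul, map_add]
    linear_combination (-(Polynomial.aeval t a2 * Polynomial.aeval t b2)) * hrel
  refine ⟨t, y, ?_, ?_, ?_, hrel⟩
  · refine top_le_iff.1 fun z _ => ?_
    obtain ⟨c0, c1, rfl⟩ := hdiv z
    have hle : F ≤ IntermediateField.adjoin k ({t, y} : Set X.functionField) :=
      IntermediateField.adjoin.mono k _ _ (by simp)
    exact add_mem (hle c0.2) (mul_mem (hle c1.2) (IntermediateField.subset_adjoin k _ (by simp)))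
  · have hli : LinearIndependent F ![1, y] := by
      rw [LinearIndependent.pair_iff]
      intro s r h
      obtain ⟨r0, s0, hs⟩ := IntermediateField.mem_adjoin_simple_iff k _ |>.1 s.2
      obtain ⟨r1, s1, hr⟩ := IntermediateField.mem_adjoin_simple_iff k _ |>.1 r.2
      rw [IntermediateField.smul_def, IntermediateField.smul_def, smul_eq_mul, smul_eq_mul, mul_one] at h
      have hy0 : y ≠ 0 := fun e => by
        have := (hzero 0 1 (by simp [e])).2
        exact one_ne_zero this
      by_cases hs0 : (s : X.functionField) = 0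
      · rw [hs0, zero_add, mul_eq_zero] at h
        exact ⟨Subtype.ext hs0, Subtype.ext (h.resolve_right hy0)⟩
      · exfalso
        rw [hs] at hs0
        by_cases hs1 : Polynomial.aeval t s1 = 0
        · rw [hs, hr, hs1, div_zero, zero_mul, add_zero] at h
          exact hs0 h
        · have hs00 : Polynomial.aeval t s0 ≠ 0 := fun e => hs0 (by rw [e, div_zero])
          rw [hs, hr, div_mul_eq_mul_div, div_add_div _ _ hs00 hs1, div_eq_zero_iff, or_iff_left (mul_ne_zero hs00 hs1)] at h
          obtain ⟨h1, -⟩ := hzero (r0 * s1) (s0 * r1) (by simp only [map_mul]; linear_combination h)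
          rcases mul_eq_zero.1 h1 with e | e
          · exact hs0 (by rw [e, map_zero, zero_div])
          · exact hs1 (by rw [e, map_zero])
    have hsp : ⊤ ≤ Submodule.span F (Set.range ![1, y]) := fun z _ => by
      obtain ⟨c0, c1, rfl⟩ := hdiv z
      rw [show (c0 : X.functionField) + c1 * y = c0 • (1 : X.functionField) + c1 • y by
        simp [IntermediateField.smul_def]]
      exact add_mem (Submodule.smul_mem _ _ (Submodule.subset_span ⟨0, rfl⟩))
        (Submodule.smul_mem _ _ (Submodule.subset_span ⟨1, rfl⟩))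
    rw [Module.finrank_eq_card_basis (Module.Basis.mk hli hsp), Fintype.card_fin]
  · letI := (overMap f (genericPoint X) (genericPoint (P 1 k)) hdom).toAlgebra
    have hγP : ∀ p : Polynomial k, algebraMap (P 1 k).functionField X.functionField
        (algebraMap Γ(P 1 k, U k 0) (P 1 k).functionField (φ k 0 p)) = Polynomial.aeval t p := fun p => by
      rw [haev]
      exact overMap_germ f (genericPoint X) (genericPoint (P 1 k)) hdom (U k 0) hηP (φ k 0 p)
    have hrange : ∀ z : (P 1 k).functionField, algebraMap (P 1 k).functionField X.functionField z ∈ F := fun z => by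
      obtain ⟨u, v, -, hz⟩ := IsFractionRing.div_surjective (A := Γ(P 1 k, U k 0)) z
      obtain ⟨p, rfl⟩ := (φ_bijective k 0).2 u
      obtain ⟨p', rfl⟩ := (φ_bijective k 0).2 v
      rw [← hz, map_div₀, hγP, hγP]
      exact div_mem (hmemF p) (hmemF p')
    letI : Algebra (P 1 k).functionField F :=
      ((algebraMap (P 1 k).functionField X.functionField).codRestrict F hrange).toAlgebra
    haveI : IsScalarTower (P 1 k).functionField F X.functionField := IsScalarTower.of_algebraMap_eq fun _ => rfl
    haveI := hsep
    exact Algebra.isSeparable_tower_top_of_isSeparable (P 1 k).functionField F X.functionField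

end Groth.L21.P1
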