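import Groth.Agent.L18.ClosedImmCrit
import Mathlib.Algebra.Polynomial.Laurent
import Mathlib.Algebra.MvPolynomial.Equiv

/-!
The two charts of the projective line as polynomial rings, and their overlap as Laurent polynomials.
-/

set_option autoImplicit false
set_option backward.isDefEq.respectTransparency false
set_option linter.style.haveILetI false
universe u

open CategoryTheory CategoryTheory.Limits AlgebraicGeometry TopologicalSpace Opposite

noncomputable section

namespace Groth.L21.P1

open Groth.L18.PUP (P D cc)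
open Groth.L18.Frame (IsFrame rs ro)

variable (k : Type u) [Field k]

/-- The charts of the projective line. -/
abbrev U (i : Fin 2) : (P 1 k).Opens := D (n := 1) (R := k) i

/-- The overlap of the two charts. -/
abbrev U01 : (P 1 k).Opens := U k 0 ⊓ U k 1

/-- The coordinate of a chart. -/
abbrev t (i : Fin 2) : Γ(P 1 k, U k i) := cc (R := k) i (1 - i)

theorem eq_other {i j : Fin 2} (h : j ≠ i) : j = 1 - i := by
  revert h; fin_cases i <;> fin_cases j <;> simp

/-- A chart as a polynomial ring. -/
def φ (i : Fin 2) : Polynomial k →+* Γ(P 1 k, U k i) :=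
  Polynomial.eval₂RingHom (Groth.L18.CIC.sD i) (t k i)

theorem φ_X (i : Fin 2) : φ k i Polynomial.X = t k i := Polynomial.eval₂_X _ _

theorem φ_C (i : Fin 2) (c : k) : φ k i (Polynomial.C c) = Groth.L18.CIC.sD i c := Polynomial.eval₂_C _ _

theorem φ_bijective (i : Fin 2) : Function.Bijective (φ k i) := by
  haveI : Unique {j : Fin (1 + 1) // j ≠ i} :=
    { default := ⟨1 - i, by fin_cases i <;> simp⟩
      uniq := fun j => Subtype.ext (eq_other j.2) }
  let ev := MvPolynomial.eval₂Hom (Groth.L18.PS.chartScalar 1 k i)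
    (fun j : {j : Fin (1 + 1) // j ≠ i} => Groth.L18.PS.coord (R := k) i j.1)
  let ρ := (MvPolynomial.uniqueAlgEquiv k {j : Fin (1 + 1) // j ≠ i}).toRingEquiv
  have heq : (φ k i).comp ρ.toRingHom =
      (Proj.awayToSection (CohB1.polyGrading 1 k) (MvPolynomial.X i)).hom.comp ev := by
    refine MvPolynomial.ringHom_ext (fun c => ?_) fun j => ?_
    · show φ k i (MvPolynomial.uniqueAlgEquiv k _ (MvPolynomial.C c)) = _
      rw [← MvPolynomial.algebraMap_eq, AlgEquiv.commutes, ← Polynomial.C_eq_algebraMap, φ_C,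
        Groth.L18.CIC.sD_eq, MvPolynomial.algebraMap_eq]
      exact congrArg (Proj.awayToSection (CohB1.polyGrading 1 k) (MvPolynomial.X i)).hom
        (MvPolynomial.eval₂Hom_C (Groth.L18.PS.chartScalar 1 k i)
          (fun j : {j : Fin (1 + 1) // j ≠ i} => Groth.L18.PS.coord (R := k) i j.1) c).symm
    · show φ k i (MvPolynomial.uniqueAlgEquiv k _ (MvPolynomial.X j)) = _
      rw [show MvPolynomial.uniqueAlgEquiv k _ (MvPolynomial.X j) = (Polynomial.X : Polynomial k) from by
          simp [MvPolynomial.uniqueAlgEquiv], φ_X, RingHom.comp_apply, MvPolynomial.eval₂Hom_X']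
      rw [show t k i = cc (R := k) i j.1 from by rw [eq_other j.2]]
      rfl
  have hb : Function.Bijective ((φ k i).comp ρ.toRingHom) := by
    rw [heq, RingHom.coe_comp]
    exact (ConcreteCategory.bijective_of_isIso
      (Proj.basicOpenIsoAway (CohB1.polyGrading 1 k) (MvPolynomial.X i) (Groth.L18.PS.X_mem 1 i) one_pos).hom).comp
      (Groth.L18.PS.chart_bijective 1 k i)
  exact (Function.Bijective.of_comp_iff _ ρ.bijective).1 hb

theorem t_mul_t : ro (inf_le_left : U01 k ≤ U k 0) (t k 0) * ro (inf_le_right : U01 k ≤ U k 1) (t k 1) = 1 := by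
  have hf := (Groth.L18.PUP.T_frame (n := 1) (R := k) 0).mono (inf_le_left : U01 k ≤ U k 0)
  rw [Groth.L18.Frame.rs_rs] at hf
  refine hf.inj le_rfl ?_
  rw [Groth.L18.Frame.rs_self, one_smul, mul_comm, mul_smul]
  have h0 := congrArg (rs _ (inf_le_left : U01 k ≤ U k 0)) (Groth.L18.PUP.cc_smul (R := k) (n := 1) 0 1)
  have h1 := congrArg (rs _ (inf_le_right : U01 k ≤ U k 1)) (Groth.L18.PUP.cc_smul (R := k) (n := 1) 1 0)
  simp only [Groth.L18.Frame.rs_smul, Groth.L18.Frame.rs_rs] at h0 h1
  exact (congrArg _ h0).trans h1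

theorem basicOpen_t : (P 1 k).basicOpen (t k 0) = U01 k := by
  refine le_antisymm (le_inf ((P 1 k).basicOpen_le _) (Groth.L18.PUP.basicOpen_cc 0 1)) fun x hx => ?_
  have h := (P 1 k).basicOpen_of_isUnit (IsUnit.of_mul_eq_one _ (t_mul_t k))
  rw [Scheme.basicOpen_res] at h
  exact (h.ge hx).2

/-- The overlap as an algebra over the polynomial ring. -/
@[instance_reducible]
def algOverlap : Algebra (Polynomial k) Γ(P 1 k, U01 k) :=
  (((P 1 k).presheaf.map (homOfLE (inf_le_left : U01 k ≤ U k 0)).op).hom.comp (φ k 0)).toAlgebra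

theorem isLocalization_overlap :
    letI := algOverlap k
    IsLocalization.Away (Polynomial.X : Polynomial k) Γ(P 1 k, U01 k) := by
  letI := algOverlap k
  have hU : IsAffineOpen (U k 0) :=
    Proj.isAffineOpen_basicOpen _ _ (Groth.L18.PS.X_mem 1 0) one_pos
  letI a1 : Algebra Γ(P 1 k, U k 0) Γ(P 1 k, U01 k) :=
    ((P 1 k).presheaf.map (homOfLE (inf_le_left : U01 k ≤ U k 0)).op).hom.toAlgebra
  haveI hloc : IsLocalization.Away (t k 0) Γ(P 1 k, U01 k) :=
    hU.isLocalization_of_eq_basicOpen (t k 0) (homOfLE inf_le_left) (basicOpen_t k).symm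
  let e := RingEquiv.ofBijective (φ k 0) (φ_bijective k 0)
  have h := IsLocalization.isLocalization_of_base_ringEquiv (Submonoid.powers (t k 0)) Γ(P 1 k, U01 k) e.symm
  rw [Submonoid.map_powers] at h
  have he : e.symm (t k 0) = Polynomial.X := by
    rw [RingEquiv.symm_apply_eq]; exact (φ_X k 0).symm
  rw [he] at h
  convert h using 2

/-- The overlap as Laurent polynomials. -/
def ψ : LaurentPolynomial k ≃+* Γ(P 1 k, U01 k) :=
  letI := algOverlap k
  haveI := isLocalization_overlap k
  (IsLocalization.algEquiv (Submonoid.powers (Polynomial.X : Polynomial k)) (LaurentPolynomial k)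
    Γ(P 1 k, U01 k)).toRingEquiv

theorem ψ_toLaurent (p : Polynomial k) :
    ψ k (Polynomial.toLaurent p) = ro inf_le_left (φ k 0 p) := by
  letI := algOverlap k
  haveI := isLocalization_overlap k
  exact (IsLocalization.algEquiv (Submonoid.powers (Polynomial.X : Polynomial k)) (LaurentPolynomial k)
    Γ(P 1 k, U01 k)).commutes p

theorem ψ_T_one : ψ k (LaurentPolynomial.T 1) = ro inf_le_left (t k 0) := by
  rw [← Polynomial.toLaurent_X, ψ_toLaurent, φ_X]

theorem ψ_T_neg_one : ψ k (LaurentPolynomial.T (-1)) = ro inf_le_right (t k 1) := by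
  have h : ψ k (LaurentPolynomial.T 1) * ψ k (LaurentPolynomial.T (-1)) = 1 := by
    rw [← map_mul, ← LaurentPolynomial.T_add]; simp
  rw [ψ_T_one] at h
  calc ψ k (LaurentPolynomial.T (-1))
      = (ro inf_le_left (t k 0) * ro inf_le_right (t k 1)) * ψ k (LaurentPolynomial.T (-1)) := by rw [t_mul_t, one_mul]
    _ = ro inf_le_right (t k 1) := by rw [mul_comm (ro inf_le_left (t k 0)), mul_assoc, h, mul_one]

theorem ψ_invert_toLaurent (p : Polynomial k) :
    ψ k (LaurentPolynomial.invert (Polynomial.toLaurent p)) = ro inf_le_right (φ k 1 p) := by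
  induction p using Polynomial.induction_on with
  | C c =>
    rw [Polynomial.toLaurent_C, LaurentPolynomial.invert_C, ← Polynomial.toLaurent_C, ψ_toLaurent, φ_C, φ_C]
    show ro _ (ro _ _) = ro _ (ro _ _)
    rw [Groth.L18.Frame.ro_ro, Groth.L18.Frame.ro_ro]
  | add p q hp hq => simp only [map_add, hp, hq]
  | monomial n c ih =>
    rw [pow_succ, ← mul_assoc, map_mul Polynomial.toLaurent, map_mul, map_mul, ih, Polynomial.toLaurent_X,
      LaurentPolynomial.invert_T, ψ_T_neg_one, map_mul (φ k 1) (_ * _), φ_X, Groth.L18.Frame.ro_mul]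

end Groth.L21.P1
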