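import Groth.Agent.L21.P1.Unique

/-!
Polynomials related by `T ↦ T⁻¹` after a shift.
-/

set_option autoImplicit false
universe u

open Polynomial

noncomputable section

namespace Groth.L21.P1

variable {k : Type u} [CommRing k]

theorem coeff_eq_of_T_mul_eq {a : ℕ} {q q' : Polynomial k}
    (h : LaurentPolynomial.T (-(a : ℤ)) * Polynomial.toLaurent q =
      LaurentPolynomial.invert (Polynomial.toLaurent q')) :
    q.natDegree ≤ a ∧ ∀ n ≤ a, q'.coeff n = q.coeff (a - n) := by
  refine ⟨?_, fun n hn => ?_⟩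
  · rcases eq_or_ne q 0 with rfl | hq
    · simp
    · have h' : LaurentPolynomial.T ((q.natDegree : ℤ) + (-(a : ℤ))) * Polynomial.toLaurent q =
          LaurentPolynomial.T (q.natDegree : ℤ) * LaurentPolynomial.invert (Polynomial.toLaurent q') := by
        rw [← h, LaurentPolynomial.T_add, mul_assoc]
      obtain ⟨m, hm⟩ : ∃ m, m = q.natDegree := ⟨_, rfl⟩
      have hc : (LaurentPolynomial.T (-(a : ℤ)) * Polynomial.toLaurent q).coeff (-(a : ℤ) + (m : ℤ)) = q.coeff m := by
        rw [LaurentPolynomial.T, AddMonoidAlgebra.coeff_single_mul_add, one_mul, LaurentPolynomial.coeff_toLaurent]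
        exact Finsupp.mapDomain_apply Nat.cast_injective _ m
      by_contra hlt
      rw [h, LaurentPolynomial.invert_apply] at hc
      have hne : (Polynomial.toLaurent q').coeff (-(-(a : ℤ) + (m : ℤ))) ≠ 0 := by
        rw [hc, hm]
        exact Polynomial.leadingCoeff_ne_zero.2 hq
      rw [← Finsupp.mem_support_iff, LaurentPolynomial.support_coeff_toLaurent] at hne
      obtain ⟨l, -, hl⟩ := Finset.mem_map.1 hne
      have hl' : (l : ℤ) = -(-(a : ℤ) + (m : ℤ)) := hl
      omega
  · have hc : (LaurentPolynomial.T (-(a : ℤ)) * Polynomial.toLaurent q).coeff (-(a : ℤ) + ((a - n : ℕ) : ℤ)) =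
        q.coeff (a - n) := by
      rw [LaurentPolynomial.T, AddMonoidAlgebra.coeff_single_mul_add, one_mul, LaurentPolynomial.coeff_toLaurent]
      exact Finsupp.mapDomain_apply Nat.cast_injective _ (a - n)
    rw [h, LaurentPolynomial.invert_apply, show -(-(a : ℤ) + ((a - n : ℕ) : ℤ)) = (n : ℤ) by omega,
      LaurentPolynomial.coeff_toLaurent] at hc
    rw [← hc]
    exact (Finsupp.mapDomain_apply Nat.cast_injective _ n).symm

theorem eq_zero_of_T_mul_eq {a : ℕ} (ha : 0 < a) {p q : Polynomial k}
    (h : Polynomial.toLaurent p = LaurentPolynomial.T (-(a : ℤ)) * LaurentPolynomial.invert (Polynomial.toLaurent q)) :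
    p = 0 := by
  by_contra hp
  have h1 := le_of_T_mul_eq (d := 0) (d' := -(a : ℤ)) (q := q) hp (by rw [LaurentPolynomial.T_zero, one_mul, h])
  omega

end Groth.L21.P1
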