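import Groth.Agent.L21.P1.Coh
import Groth.Agent.L21.P1.PushCoh
import Groth.Agent.L21.P1.Laurent
import Groth.Agent.L27.Deg.PushRank

/-!
Double covers of the projective line: the direct image of the structure sheaf and the quadratic
equations on the two charts.
-/

set_option autoImplicit false
set_option backward.isDefEq.respectTransparency false
set_option linter.style.haveILetI false
universe u

open CategoryTheory CategoryTheory.Limits AlgebraicGeometry TopologicalSpace Opposite

noncomputable section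

namespace Groth.L21.P1

open Groth.L18.PUP (P)
open Groth.L18.Frame (rs ro)
open Groth.L19.ProjBdl (IsBasisOn lc app_rs app_lc)
open Groth.L21.RR (h)

variable {k : Type u} [Field k] {X : Scheme.{u}} (f : X ⟶ P 1 k)

/-- The polynomial ring acting on functions above a chart. -/
def pol (i : Fin 2) : Polynomial k →+* Γ(X, f ⁻¹ᵁ U k i) := (f.app (U k i)).hom.comp (φ k i)

/-- The Laurent polynomial ring acting on functions above the overlap. -/
def lau : LaurentPolynomial k →+* Γ(X, f ⁻¹ᵁ U01 k) := (f.app (U01 k)).hom.comp (ψ k).toRingHom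

/-- Restriction to the overlap from a chart. -/
abbrev res (i : Fin 2) (h : U01 k ≤ U k i) : Γ(X, f ⁻¹ᵁ U k i) →+* Γ(X, f ⁻¹ᵁ U01 k) :=
  (X.presheaf.map (homOfLE (f.preimage_mono h)).op).hom

theorem app_res {V W : (P 1 k).Opens} (h : W ≤ V) (a : Γ(P 1 k, V)) :
    (X.presheaf.map (homOfLE (f.preimage_mono h)).op).hom (f.app V a) = f.app W (ro h a) :=
  (ConcreteCategory.congr_hom (f.naturality (homOfLE h).op) a).symm

theorem res_pol_zero (p : Polynomial k) : res f 0 inf_le_left (pol f 0 p) = lau f (Polynomial.toLaurent p) :=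
  (app_res f inf_le_left (φ k 0 p)).trans (congrArg (f.app (U01 k)) (ψ_toLaurent k p).symm)

theorem res_pol_one (p : Polynomial k) :
    res f 1 inf_le_right (pol f 1 p) = lau f (LaurentPolynomial.invert (Polynomial.toLaurent p)) :=
  (app_res f inf_le_right (φ k 1 p)).trans (congrArg (f.app (U01 k)) (ψ_invert_toLaurent k p).symm)

/-- The quadratic structure of a double cover with twist `a`. -/
structure Quad (a : ℕ) where
  /-- the second generator -/
  y : ∀ i, Γ(X, f ⁻¹ᵁ U k i)
  /-- the constant coefficient -/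
  P : Fin 2 → Polynomial k
  /-- the linear coefficient -/
  Q : Fin 2 → Polynomial k
  bij : ∀ i, Function.Bijective fun c : Polynomial k × Polynomial k => pol f i c.1 + pol f i c.2 * y i
  rel : ∀ i, y i ^ 2 + pol f i (Q i) * y i = pol f i (P i)
  transP : LaurentPolynomial.T (-((2 * a : ℕ) : ℤ)) * Polynomial.toLaurent (P 0) =
    LaurentPolynomial.invert (Polynomial.toLaurent (P 1))
  transQ : LaurentPolynomial.T (-(a : ℤ)) * Polynomial.toLaurent (Q 0) =
    LaurentPolynomial.invert (Polynomial.toLaurent (Q 1))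
  transy : res f 1 inf_le_right (y 1) = lau f (LaurentPolynomial.T (-(a : ℤ))) * res f 0 inf_le_left (y 0)

variable [X.Over (Spec (CommRingCat.of k))] [IsProper (X ↘ Spec (CommRingCat.of k))] [IsFinite f]
  (hf : f ≫ Groth.L18.PUP.pr 1 k = X ↘ Spec (CommRingCat.of k))
  (hE : FlatMod.IsFinLocFreeOfRank 2 ((Scheme.Modules.pushforward f).obj (Coh.structureModule X)))
  (h0 : h k 0 (Coh.structureModule X) = 1)

include hf hE h0 in
/-- The direct image of the structure sheaf of a double cover. -/
theorem exists_iso_push :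
    Nonempty (sumO k ![0, -((h k 1 (Coh.structureModule X) : ℤ) + 1)] ≅
      (Scheme.Modules.pushforward f).obj (Coh.structureModule X)) := by
  haveI := Groth.L21.RR.isNoetherian_of_proper (X := X) k
  haveI : Coh.IsQCoh (Coh.structureModule X) := (Groth.L16.CohClosedPush.isCoh_structure (X := X)).1
  haveI : (P 1 k).IsSeparated := ⟨by
    rw [terminal.comp_from (Groth.L18.PUP.pr 1 k) |>.symm]
    infer_instance⟩
  obtain ⟨d, hd, ⟨θ⟩⟩ := exists_splitting k hE
  have hp : ∀ p, h k p (O k (d 0)) + h k p (O k (d 1)) = h k p (Coh.structureModule X) := fun p => by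
    rw [← h_push_affine k f hf (Coh.structureModule X) p, ← Groth.L21.RR.h_congr k θ p, h_sumO, Fin.sum_univ_two]
  have e0 := hp 0
  have e1 := hp 1
  rw [(h_O k _).1, (h_O k _).1, h0] at e0
  rw [(h_O k _).2, (h_O k _).2] at e1
  have hd10 : d 1 ≤ d 0 := hd (by decide)
  have hda : d = ![0, -((h k 1 (Coh.structureModule X) : ℤ) + 1)] := by
    funext l
    fin_cases l
    · show d 0 = 0
      omega
    · show d 1 = -((h k 1 (Coh.structureModule X) : ℤ) + 1)
      omega
  exact ⟨eqToIso (by rw [hda]) ≪≫ θ⟩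

omit [X.Over (Spec (CommRingCat.of k))] [IsProper (X ↘ Spec (CommRingCat.of k))] [IsFinite f] in
/-- Quadratic equations from a splitting. -/
theorem nonempty_quad {a : ℕ} (ha : 0 < a)
    (θ : sumO k ![0, -(a : ℤ)] ≅ (Scheme.Modules.pushforward f).obj (Coh.structureModule X)) :
    Nonempty (Quad f a) := by
  classical
  let d : Fin 2 → ℤ := ![0, -(a : ℤ)]
  let b : ∀ i, Fin 2 → Γ(X, f ⁻¹ᵁ U k i) := fun i l => θ.hom.app (U k i) (stdBasis k d i l)
  have hlc : ∀ (i : Fin 2) (V : (P 1 k).Opens) (h : V ≤ U k i), Function.Bijective fun c : Fin 2 → Γ(P 1 k, V) =>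
      ∑ l, f.app V (c l) * (X.presheaf.map (homOfLE (f.preimage_mono h)).op).hom (b i l) := fun i V h => by
    have e : (fun c : Fin 2 → Γ(P 1 k, V) =>
        ∑ l, f.app V (c l) * (X.presheaf.map (homOfLE (f.preimage_mono h)).op).hom (b i l)) =
        θ.hom.app V ∘ lc (sumO k d) (stdBasis k d i) h := funext fun c => by
      rw [Function.comp_apply, app_lc]
      rfl
    rw [e]
    exact (ConcreteCategory.bijective_of_isIso (θ.hom.app V)).comp (isBasisOn_stdBasis k d i V h)
  have hpol : ∀ i, Function.Bijective fun c : Polynomial k × Polynomial k =>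
      pol f i c.1 * b i 0 + pol f i c.2 * b i 1 := fun i => by
    have h1 := hlc i (U k i) le_rfl
    have e : (fun c : Polynomial k × Polynomial k => pol f i c.1 * b i 0 + pol f i c.2 * b i 1) =
        (fun c : Fin 2 → Γ(P 1 k, U k i) =>
          ∑ l, f.app (U k i) (c l) * (X.presheaf.map (homOfLE (f.preimage_mono le_rfl)).op).hom (b i l)) ∘
          fun c => ![φ k i c.1, φ k i c.2] := funext fun c => by
      have hid : ∀ v, (X.presheaf.map (homOfLE (f.preimage_mono (le_rfl : U k i ≤ U k i))).op).hom v = v :=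
        fun v => Groth.L18.Frame.ro_self _ v
      simp only [Function.comp_apply, Fin.sum_univ_two, hid]
      rfl
    rw [e]
    refine h1.comp ⟨fun c c' h => ?_, fun v => ?_⟩
    · exact Prod.ext ((φ_bijective k i).1 (congrFun h 0)) ((φ_bijective k i).1 (congrFun h 1))
    · obtain ⟨p, hp⟩ := (φ_bijective k i).2 (v 0)
      obtain ⟨q, hq⟩ := (φ_bijective k i).2 (v 1)
      exact ⟨(p, q), funext fun l => by fin_cases l <;> assumption⟩
  have htr : ∀ l, res f 1 inf_le_right (b 1 l) = lau f (LaurentPolynomial.T (d l)) * res f 0 inf_le_left (b 0 l) :=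
    fun l => by
    show rs ((Scheme.Modules.pushforward f).obj (Coh.structureModule X)) (inf_le_right : U01 k ≤ U k 1)
        (θ.hom.app (U k 1) (stdBasis k d 1 l)) =
      ψ k (LaurentPolynomial.T (d l)) • rs ((Scheme.Modules.pushforward f).obj (Coh.structureModule X))
        (inf_le_left : U01 k ≤ U k 0) (θ.hom.app (U k 0) (stdBasis k d 0 l))
    rw [← app_rs, ← app_rs, stdBasis_transition, Scheme.Modules.Hom.app_smul]
  have hind : ∀ u v u' v' : LaurentPolynomial k,
      lau f u * res f 0 inf_le_left (b 0 0) + lau f v * res f 0 inf_le_left (b 0 1) =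
        lau f u' * res f 0 inf_le_left (b 0 0) + lau f v' * res f 0 inf_le_left (b 0 1) → u = u' ∧ v = v' :=
    fun u v u' v' h => by
    have h1 := (hlc 0 (U01 k) inf_le_left).1 (a₁ := ![ψ k u, ψ k v]) (a₂ := ![ψ k u', ψ k v'])
      (by simp only [Fin.sum_univ_two]; exact h)
    exact ⟨(ψ k).injective (congrFun h1 0), (ψ k).injective (congrFun h1 1)⟩
  choose c hc using fun i => (hpol i).2 1
  have hone : res f 0 inf_le_left (pol f 0 (c 0).1 * b 0 0 + pol f 0 (c 0).2 * b 0 1) =
      res f 1 inf_le_right (pol f 1 (c 1).1 * b 1 0 + pol f 1 (c 1).2 * b 1 1) := by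
    simp only [hc, map_one]
  rw [map_add, map_add, map_mul, map_mul, map_mul, map_mul, res_pol_zero, res_pol_zero, res_pol_one, res_pol_one,
    htr, htr, ← mul_assoc, ← mul_assoc, ← map_mul, ← map_mul] at hone
  obtain ⟨hc0, hc1⟩ := hind _ _ _ _ hone
  have hc01 : (c 0).2 = 0 := eq_zero_of_T_mul_eq ha (q := (c 1).2) (by rw [hc1, mul_comm]; rfl)
  have hc11 : (c 1).2 = 0 := by
    rw [hc01, map_zero] at hc1
    refine Polynomial.toLaurent_eq_zero.1 ((LaurentPolynomial.invert (R := k)).injective ?_)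
    rw [map_zero]
    exact ((LaurentPolynomial.isUnit_T _).mul_left_eq_zero).1 hc1.symm
  have hT0 : LaurentPolynomial.T (-((0 : ℕ) : ℤ)) * Polynomial.toLaurent (c 0).1 =
      LaurentPolynomial.invert (Polynomial.toLaurent (c 1).1) := by
    rw [hc0, show d 0 = 0 from rfl, Nat.cast_zero, neg_zero, LaurentPolynomial.T_zero, one_mul, mul_one]
  obtain ⟨hdeg, hcoeff⟩ := coeff_eq_of_T_mul_eq hT0
  obtain ⟨c₀, hc₀⟩ : ∃ c₀ : k, (c 0).1 = Polynomial.C c₀ :=
    ⟨_, Polynomial.eq_C_of_natDegree_le_zero hdeg⟩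
  have hc₁ : (c 1).1 = Polynomial.C c₀ := by
    have h1 : LaurentPolynomial.invert (Polynomial.toLaurent (c 1).1) =
        LaurentPolynomial.invert (Polynomial.toLaurent (Polynomial.C c₀)) := by
      rw [← hT0, hc₀, Nat.cast_zero, neg_zero, LaurentPolynomial.T_zero, one_mul, Polynomial.toLaurent_C,
        LaurentPolynomial.invert_C]
    exact Polynomial.toLaurent_injective ((LaurentPolynomial.invert (R := k)).injective h1)
  have hci : ∀ i, pol f i (Polynomial.C c₀) * b i 0 = 1 := fun i => by
    have h0' : pol f 0 (c 0).1 * b 0 0 + pol f 0 (c 0).2 * b 0 1 = 1 := hc 0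
    have h1' : pol f 1 (c 1).1 * b 1 0 + pol f 1 (c 1).2 * b 1 1 = 1 := hc 1
    rw [hc01, hc₀, map_zero (pol f 0), zero_mul, add_zero] at h0'
    rw [hc11, hc₁, map_zero (pol f 1), zero_mul, add_zero] at h1'
    fin_cases i
    · exact h0'
    · exact h1'
  have hc₀0 : c₀ ≠ 0 := by
    intro h
    have h1 := hci 0
    rw [h, map_zero, map_zero, zero_mul] at h1
    have h2 := (hpol 0).1 (a₁ := (1, 0)) (a₂ := (0, 0)) (by
      simp only [map_zero, map_one, zero_mul, one_mul, add_zero]
      rw [← one_mul (b 0 0), ← h1, zero_mul])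
    exact one_ne_zero (congrArg Prod.fst h2)
  have hb0 : ∀ i, b i 0 = pol f i (Polynomial.C c₀⁻¹) := fun i => by
    rw [← mul_one (pol f i (Polynomial.C c₀⁻¹)), ← hci i, ← mul_assoc, ← map_mul, ← Polynomial.C_mul,
      inv_mul_cancel₀ hc₀0, Polynomial.C_1, map_one, one_mul]
  have hbij : ∀ i, Function.Bijective fun c : Polynomial k × Polynomial k => pol f i c.1 + pol f i c.2 * b i 1 :=
    fun i => by
    have e : (fun c : Polynomial k × Polynomial k => pol f i c.1 + pol f i c.2 * b i 1) =
        (fun c : Polynomial k × Polynomial k => pol f i c.1 * b i 0 + pol f i c.2 * b i 1) ∘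
          fun c => (Polynomial.C c₀ * c.1, c.2) := funext fun c => by
      simp only [Function.comp_apply]
      rw [mul_comm (Polynomial.C c₀) c.1, map_mul, mul_assoc, hci i, mul_one]
    rw [e]
    refine (hpol i).comp ⟨fun c c' h => ?_, fun v => ⟨(Polynomial.C c₀⁻¹ * v.1, v.2), ?_⟩⟩
    · exact Prod.ext (mul_left_cancel₀ (Polynomial.C_ne_zero.2 hc₀0) (congrArg Prod.fst h))
        (congrArg Prod.snd h :)
    · show (_, v.2) = v
      rw [← mul_assoc, ← Polynomial.C_mul, mul_inv_cancel₀ hc₀0, Polynomial.C_1, one_mul]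
  choose pq hpq using fun i => (hbij i).2 (b i 1 ^ 2)
  have htry : res f 1 inf_le_right (b 1 1) = lau f (LaurentPolynomial.T (-(a : ℤ))) * res f 0 inf_le_left (b 0 1) :=
    htr 1
  have hsq : res f 1 inf_le_right (pol f 1 (pq 1).1 + pol f 1 (pq 1).2 * b 1 1) =
      lau f (LaurentPolynomial.T (-(a : ℤ))) ^ 2 * res f 0 inf_le_left (pol f 0 (pq 0).1 + pol f 0 (pq 0).2 * b 0 1) := by
    simp only [hpq, map_pow, htry, mul_pow]
  rw [map_add, map_add, map_mul, map_mul, res_pol_one, res_pol_one, res_pol_zero, res_pol_zero, htry, mul_add,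
    ← map_pow, LaurentPolynomial.T_pow, ← mul_assoc, ← mul_assoc, ← map_mul, ← map_mul, ← map_mul] at hsq
  have hr0 : ∀ u, lau f u = lau f (u * Polynomial.toLaurent (Polynomial.C c₀)) * res f 0 inf_le_left (b 0 0) := by
    intro u
    rw [map_mul, mul_assoc, ← res_pol_zero, ← map_mul, hci 0, map_one, mul_one]
  rw [hr0 (LaurentPolynomial.invert (Polynomial.toLaurent (pq 1).1)),
    hr0 (LaurentPolynomial.T _ * Polynomial.toLaurent (pq 0).1)] at hsq
  obtain ⟨hP, hQ⟩ := hind _ _ _ _ hsq
  have hCu : IsUnit (Polynomial.toLaurent (Polynomial.C c₀)) :=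
    ((Polynomial.isUnit_C).2 (Ne.isUnit hc₀0)).map _
  refine ⟨{
    y := fun i => b i 1
    P := fun i => (pq i).1
    Q := fun i => -(pq i).2
    bij := hbij
    rel := fun i => by
      rw [← hpq i, map_neg, neg_mul, add_neg_cancel_right]
    transP := ?_
    transQ := ?_
    transy := htry }⟩
  · rw [hCu.mul_left_inj] at hP
    rw [hP]
    push_cast
    ring_nf
  · have h2 : LaurentPolynomial.invert (Polynomial.toLaurent (pq 1).2) =
        LaurentPolynomial.T (-(a : ℤ)) * Polynomial.toLaurent (pq 0).2 := by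
      refine (LaurentPolynomial.isUnit_T (-(a : ℤ))).mul_left_inj.1 (hQ.trans ?_)
      rw [show (2 : ℕ) * -(a : ℤ) = -(a : ℤ) + -(a : ℤ) by push_cast; ring, LaurentPolynomial.T_add]
      ring
    simp only [map_neg, h2, mul_neg]

end Groth.L21.P1
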