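import Groth.Agent.L21.P1.DoubleCover
import Mathlib.RingTheory.AdjoinRoot
import Mathlib.Algebra.TrivSqZeroExt.Basic

/-!
Charts of double covers of the projective line as hyperelliptic equations; the degree bounds.
-/

set_option autoImplicit false
set_option backward.isDefEq.respectTransparency false
set_option linter.style.haveILetI false
universe u

open CategoryTheory CategoryTheory.Limits AlgebraicGeometry TopologicalSpace Opposite IsLocalRing
open TrivSqZeroExt

noncomputable section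

namespace Groth.L21.P1

open Groth.L18.PUP (P)
open Groth.L18.Frame (rs ro)

variable {k : Type u} [Field k] {X : Scheme.{u}} {f : X ⟶ P 1 k} {a : ℕ}

/-- The equation `Y² + Q Y - P`. -/
def eqn (q : Quad f a) (i : Fin 2) : Polynomial (Polynomial k) :=
  Polynomial.X ^ 2 + Polynomial.C (q.Q i) * Polynomial.X - Polynomial.C (q.P i)

theorem eval₂_eqn (q : Quad f a) (i : Fin 2) {R : Type u} [CommRing R] (ρ : Polynomial k →+* R) (r : R) :
    (eqn q i).eval₂ ρ r = r ^ 2 + ρ (q.Q i) * r - ρ (q.P i) := by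
  simp [eqn]

/-- The map from the chart of the hyperelliptic curve. -/
def chartMap (q : Quad f a) (i : Fin 2) : AdjoinRoot (eqn q i) →+* Γ(X, f ⁻¹ᵁ U k i) :=
  AdjoinRoot.lift (pol f i) (q.y i) (by rw [eval₂_eqn, q.rel, sub_self])

theorem chartMap_bijective (q : Quad f a) (i : Fin 2) : Function.Bijective (chartMap q i) := by
  set c := AdjoinRoot.of (eqn q i)
  set r := AdjoinRoot.root (eqn q i)
  have hmon : (eqn q i).Monic := by
    rw [eqn, sub_eq_add_neg, add_assoc]
    refine Polynomial.monic_X_pow_add ?_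
    refine (Polynomial.degree_add_le _ _).trans_lt (max_lt ?_ ?_)
    · exact (Polynomial.degree_C_mul_X_le _).trans_lt (by norm_num)
    · rw [Polynomial.degree_neg]
      exact Polynomial.degree_C_le.trans_lt (by norm_num)
  have hrel : r ^ 2 = c (q.P i) - c (q.Q i) * r := by
    have h : (eqn q i).eval₂ c r = 0 := AdjoinRoot.eval₂_root _
    rw [eval₂_eqn] at h
    linear_combination h
  have hspan : ∀ z, ∃ p : Polynomial k × Polynomial k, z = c p.1 + c p.2 * r := fun z => by
    induction z using AdjoinRoot.induction_on with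
    | ih g =>
      induction g using Polynomial.induction_on with
      | C p => exact ⟨(p, 0), by rw [map_zero, zero_mul, add_zero]; rfl⟩
      | add g g' hg hg' =>
        obtain ⟨p, hp⟩ := hg
        obtain ⟨p', hp'⟩ := hg'
        exact ⟨p + p', by rw [map_add, hp, hp', Prod.fst_add, Prod.snd_add, map_add, map_add]; ring⟩
      | monomial n p hn =>
        obtain ⟨s, hs⟩ := hn
        refine ⟨(s.2 * q.P i, s.1 - s.2 * q.Q i), ?_⟩
        rw [pow_succ, ← mul_assoc, map_mul, AdjoinRoot.mk_X, hs, map_sub, map_mul, map_mul]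
        linear_combination (c s.2) * hrel
  have hχ : ∀ p : Polynomial k × Polynomial k, chartMap q i (c p.1 + c p.2 * r) = pol f i p.1 + pol f i p.2 * q.y i :=
    fun p => by
      rw [map_add, map_mul]
      simp only [chartMap, c, r, AdjoinRoot.lift_of, AdjoinRoot.lift_root]
  refine ⟨fun z z' h => ?_, fun w => ?_⟩
  · obtain ⟨p, rfl⟩ := hspan z
    obtain ⟨p', rfl⟩ := hspan z'
    rw [hχ, hχ] at h
    rw [(q.bij i).1 h]
  · obtain ⟨p, hp⟩ := (q.bij i).2 w
    exact ⟨_, (hχ p).trans hp⟩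

/-- The chart of a double cover as the hyperelliptic chart. -/
def chartEquiv (q : Quad f a) (i : Fin 2) : AdjoinRoot (eqn q i) ≃+* Γ(X, f ⁻¹ᵁ U k i) :=
  RingEquiv.ofBijective (chartMap q i) (chartMap_bijective q i)

theorem natDegree_le (q : Quad f a) : (q.P 0).natDegree ≤ 2 * a ∧ (q.Q 0).natDegree ≤ a :=
  ⟨(coeff_eq_of_T_mul_eq q.transP).1, (coeff_eq_of_T_mul_eq q.transQ).1⟩

/-- The lower bound on the degrees, from regularity above infinity. -/
theorem le_max_natDegree [IsAffineHom f] (q : Quad f a) (ha : 0 < a)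
    (hreg : ∀ x : X, (maximalIdeal (X.presheaf.stalk x)).IsPrincipal) :
    2 * a - 1 ≤ max (q.P 0).natDegree (2 * (q.Q 0).natDegree) := by
  by_contra hcon
  push Not at hcon
  obtain ⟨hdP, hdQ⟩ := max_lt_iff.1 hcon
  obtain ⟨-, hcP⟩ := coeff_eq_of_T_mul_eq q.transP
  obtain ⟨-, hcQ⟩ := coeff_eq_of_T_mul_eq q.transQ
  have hQ0 : (q.Q 1).coeff 0 = 0 := by
    rw [hcQ 0 (Nat.zero_le _)]; exact Polynomial.coeff_eq_zero_of_natDegree_lt (by omega)
  have hP0 : (q.P 1).coeff 0 = 0 := by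
    rw [hcP 0 (Nat.zero_le _)]; exact Polynomial.coeff_eq_zero_of_natDegree_lt (by omega)
  have hP1 : (q.P 1).coeff 1 = 0 := by
    rw [hcP 1 (by omega)]; exact Polynomial.coeff_eq_zero_of_natDegree_lt (by omega)
  let R2 := TrivSqZeroExt k (k × k)
  let ρ : Polynomial k →+* R2 := Polynomial.eval₂RingHom (algebraMap k R2) (inr (1, 0))
  obtain ⟨q1, hq1⟩ : ∃ q1, q.Q 1 = Polynomial.X * q1 := Polynomial.X_dvd_iff.2 hQ0
  obtain ⟨p1, hp1⟩ : ∃ p1, q.P 1 = Polynomial.X ^ 2 * p1 := Polynomial.X_pow_dvd_iff.2 fun n hn => by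
    interval_cases n <;> assumption
  have hρX : ρ Polynomial.X = inr (1, 0) := Polynomial.eval₂_X _ _
  have hroot : (eqn q 1).eval₂ ρ (inr (0, 1)) = 0 := by
    rw [eval₂_eqn, hq1, hp1, map_mul, map_mul, map_pow, hρX, pow_two, pow_two, inr_mul_inr, mul_comm (inr _) (ρ q1),
      mul_assoc, inr_mul_inr, inr_mul_inr, mul_zero, zero_mul, add_zero, sub_zero]
  let η : Γ(X, f ⁻¹ᵁ U k 1) →+* R2 := (AdjoinRoot.lift ρ (inr (0, 1)) hroot).comp (chartEquiv q 1).symm.toRingHom
  have hηpol : ∀ p, η (pol f 1 p) = ρ p := fun p => by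
    have h : (chartEquiv q 1).symm (pol f 1 p) = AdjoinRoot.of (eqn q 1) p := by
      rw [RingEquiv.symm_apply_eq]
      simp [chartEquiv, chartMap]
    show AdjoinRoot.lift ρ (inr (0, 1)) hroot ((chartEquiv q 1).symm (pol f 1 p)) = _
    rw [h, AdjoinRoot.lift_of]
  have hηy : η (q.y 1) = inr (0, 1) := by
    have h : (chartEquiv q 1).symm (q.y 1) = AdjoinRoot.root (eqn q 1) := by
      rw [RingEquiv.symm_apply_eq]
      simp [chartEquiv, chartMap]
    show AdjoinRoot.lift ρ (inr (0, 1)) hroot ((chartEquiv q 1).symm (q.y 1)) = _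
    rw [h, AdjoinRoot.lift_root]
  let ε : Γ(X, f ⁻¹ᵁ U k 1) →+* k := (fstHom k k (k × k)).toRingHom.comp η
  let p : PrimeSpectrum Γ(X, f ⁻¹ᵁ U k 1) := ⟨RingHom.ker ε, RingHom.ker_isPrime ε⟩
  have hU : IsAffineOpen (f ⁻¹ᵁ U k 1) :=
    (Proj.isAffineOpen_basicOpen _ _ (Groth.L18.PS.X_mem 1 1) one_pos).preimage f
  have hxU : hU.fromSpec p ∈ f ⁻¹ᵁ U k 1 := by
    have h : hU.fromSpec p ∈ Set.range hU.fromSpec := ⟨p, rfl⟩
    rwa [hU.range_fromSpec] at h
  set x := hU.fromSpec p
  have hprime : hU.primeIdealOf ⟨x, hxU⟩ = p :=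
    hU.fromSpec.isOpenEmbedding.injective (hU.fromSpec_primeIdealOf ⟨x, hxU⟩)
  letI := X.presheaf.algebra_section_stalk ⟨x, hxU⟩
  haveI : p.asIdeal.IsPrime := p.isPrime
  haveI hloc : IsLocalization.AtPrime (X.presheaf.stalk x) p.asIdeal := by
    have h := hU.isLocalization_stalk ⟨x, hxU⟩
    have key : ∀ p' : PrimeSpectrum Γ(X, f ⁻¹ᵁ U k 1), hU.primeIdealOf ⟨x, hxU⟩ = p' →
        IsLocalization p'.asIdeal.primeCompl (X.presheaf.stalk x) := by
      rintro _ rfl
      exact h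
    exact key p hprime
  have hunit : ∀ s : p.asIdeal.primeCompl, IsUnit (η s) := fun s => by
    rw [isUnit_iff_isUnit_fst]
    exact Ne.isUnit s.2
  let lam : X.presheaf.stalk x →+* R2 := IsLocalization.lift hunit
  have hlam : ∀ b, lam (algebraMap _ (X.presheaf.stalk x) b) = η b := fun b => IsLocalization.lift_eq _ b
  obtain ⟨π, hπ⟩ := (hreg x).principal
  have hfst : (lam π).fst = 0 := by
    obtain ⟨b, s, hbs⟩ := IsLocalization.exists_mk'_eq p.asIdeal.primeCompl π
    have hmem : π ∈ maximalIdeal (X.presheaf.stalk x) := hπ ▸ Submodule.mem_span_singleton_self π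
    rw [← hbs, IsLocalization.AtPrime.mk'_mem_maximal_iff (X.presheaf.stalk x) p.asIdeal] at hmem
    have h1 : η s * lam π = η b := by
      rw [← hlam, ← hlam, ← map_mul, ← hbs, IsLocalization.mk'_spec']
    have h2 := congrArg TrivSqZeroExt.fst h1
    rw [fst_mul] at h2
    rcases mul_eq_zero.1 (h2.trans hmem) with h | h
    · exact absurd h s.2
    · exact h
  have hmult : ∀ b : Γ(X, f ⁻¹ᵁ U k 1), ε b = 0 → ∃ t : k, (η b).snd = t • (lam π).snd := fun b hb => by
    have hmem : algebraMap _ (X.presheaf.stalk x) b ∈ maximalIdeal (X.presheaf.stalk x) :=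
      (IsLocalization.AtPrime.to_map_mem_maximal_iff (X.presheaf.stalk x) p.asIdeal b).2 hb
    rw [hπ] at hmem
    obtain ⟨t, ht⟩ := Submodule.mem_span_singleton.1 hmem
    refine ⟨(lam t).fst, ?_⟩
    rw [← hlam, ← ht, smul_eq_mul, map_mul, snd_mul, hfst]
    simp
  obtain ⟨t1, ht1⟩ := hmult (pol f 1 Polynomial.X) (by
    show (η (pol f 1 Polynomial.X)).fst = 0
    rw [hηpol, hρX, fst_inr])
  obtain ⟨t2, ht2⟩ := hmult (q.y 1) (by
    show (η (q.y 1)).fst = 0
    rw [hηy, fst_inr])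
  rw [hηpol, hρX, snd_inr] at ht1
  rw [hηy, snd_inr] at ht2
  have e11 : (1 : k) = t1 * (lam π).snd.1 := congrArg Prod.fst ht1
  have e22 : (1 : k) = t2 * (lam π).snd.2 := congrArg Prod.snd ht2
  have e12 : (0 : k) = t1 * (lam π).snd.2 := congrArg Prod.snd ht1
  rcases mul_eq_zero.1 e12.symm with h | h
  · rw [h, zero_mul] at e11; exact one_ne_zero e11
  · rw [h, mul_zero] at e22; exact one_ne_zero e22

end Groth.L21.P1
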