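import Groth.Agent.L21.P1.FuncField
import Mathlib.RingTheory.Smooth.Basic
import Mathlib.AlgebraicGeometry.Morphisms.Smooth
import Mathlib.FieldTheory.SeparableClosure
import Mathlib.Algebra.Polynomial.Taylor
import Mathlib.FieldTheory.IsAlgClosed.AlgebraicClosure

/-!
Smooth double covers of the projective line of positive genus are separable.
-/

set_option autoImplicit false
set_option backward.isDefEq.respectTransparency false
set_option linter.style.haveILetI false
universe u

open CategoryTheory CategoryTheory.Limits AlgebraicGeometry TopologicalSpace Opposite IsLocalRing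

noncomputable section

namespace Groth.L21.P1

open Groth.L18.PUP (P pr)
open Groth.L21.Disc (overMap overMap_germ)

section Point

variable {k : Type u} [Field k]

open Polynomial in
/-- In characteristic two the equation `y² = P(t)` is smooth only if `P'` has no roots. -/
theorem derivative_ne_zero_of_formallySmooth {A : Type u} [CommRing A] [Algebra k A] [Algebra.FormallySmooth k A]
    {g : Polynomial (Polynomial k)} {p : Polynomial k} (hg : g = X ^ 2 - C p)
    (χ : AdjoinRoot g ≃+* A) (hχ : ∀ c : k, χ (AdjoinRoot.of g (C c)) = algebraMap k A c) (h2 : (2 : k) = 0)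
    (t : AlgebraicClosure k) : aeval t (derivative p) ≠ 0 := by
  classical
  intro ht
  let K := AlgebraicClosure k
  obtain ⟨y, hy⟩ := IsAlgClosed.exists_pow_nat_eq (aeval t p) (n := 2) (by norm_num)
  suffices key : ∀ (B : Type u) [CommRing B] [Algebra K B] [Algebra k B] [IsScalarTower k K B] (ε : B),
      ε ^ 3 = 0 → ε ^ 2 = 0 by
    have h5 := key (K[X] ⧸ Ideal.span {(X : K[X]) ^ 3}) (Ideal.Quotient.mk _ X) (by
      rw [← map_pow]; exact Ideal.Quotient.eq_zero_iff_mem.2 (Ideal.subset_span rfl))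
    rw [← map_pow, Ideal.Quotient.eq_zero_iff_mem, Ideal.mem_span_singleton] at h5
    have h6 := Polynomial.natDegree_le_of_dvd h5 (pow_ne_zero _ Polynomial.X_ne_zero)
    simp at h6
  intro B _ _ _ _ ε hε3
  let I : Ideal B := Ideal.span {ε ^ 2}
  have hI2 : ∀ a ∈ I, ε * a = 0 ∧ a ^ 2 = 0 := fun a ha => by
    obtain ⟨b, rfl⟩ := Ideal.mem_span_singleton'.1 ha
    exact ⟨by rw [mul_left_comm, ← pow_succ', hε3, mul_zero],
      by rw [mul_pow, ← pow_mul, show 2 * 2 = 3 + 1 from rfl, pow_succ ε 3, hε3, zero_mul, mul_zero]⟩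
  have hI : IsNilpotent I := ⟨2, by
    rw [Ideal.span_singleton_pow, ← pow_mul, show 2 * 2 = 3 + 1 from rfl, pow_succ ε 3, hε3, zero_mul,
      Ideal.span_singleton_zero, Ideal.zero_eq_bot]⟩
  have h2B : (2 : B) = 0 := by
    have := congrArg (algebraMap k B) h2
    rwa [map_ofNat, map_zero] at this
  let t' : B := algebraMap K B t
  let y' : B := algebraMap K B y
  have hPt : aeval t' p = y' ^ 2 := by
    rw [aeval_algebraMap_apply, ← hy, map_pow]
  let q := Ideal.Quotient.mkₐ k I
  let ρ₀ : Polynomial k →+* B ⧸ I := (Polynomial.aeval (q t')).toRingHom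
  have hroot : g.eval₂ ρ₀ (q (y' + ε)) = 0 := by
    rw [hg]
    simp only [Polynomial.eval₂_sub, Polynomial.eval₂_X_pow, Polynomial.eval₂_C]
    show q (y' + ε) ^ 2 - Polynomial.aeval (q t') p = 0
    rw [aeval_algHom_apply, hPt, ← map_pow, ← map_sub]
    refine Ideal.Quotient.eq_zero_iff_mem.2 (Ideal.mem_span_singleton'.2 ⟨1, ?_⟩)
    rw [one_mul]
    linear_combination (-(ε * y')) * h2B
  let ρ : A →ₐ[k] B ⧸ I :=
    { toRingHom := (AdjoinRoot.lift _ _ hroot).comp χ.symm.toRingHom
      commutes' := fun c => by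
        show AdjoinRoot.lift _ _ hroot (χ.symm (algebraMap k A c)) = _
        rw [← hχ, RingEquiv.symm_apply_apply, AdjoinRoot.lift_of]
        exact Polynomial.aeval_C _ _ }
  obtain ⟨σ, hσ⟩ := Algebra.FormallySmooth.exists_lift I hI ρ
  let T : A := χ (AdjoinRoot.of g X)
  let Y : A := χ (AdjoinRoot.root g)
  have hmem : ∀ (a : A) (b : B), ρ a = q b → σ a - b ∈ I := fun a b h =>
    Ideal.Quotient.eq.1 ((AlgHom.congr_fun hσ a).trans h)
  have hα := hI2 _ (hmem T t' (by
    show AdjoinRoot.lift _ _ hroot (χ.symm (χ _)) = _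
    rw [RingEquiv.symm_apply_apply, AdjoinRoot.lift_of]
    exact Polynomial.aeval_X _))
  have hβ := hI2 _ (hmem Y (y' + ε) (by
    show AdjoinRoot.lift _ _ hroot (χ.symm (χ _)) = _
    rw [RingEquiv.symm_apply_apply, AdjoinRoot.lift_root]))
  have hYT : Y ^ 2 = aeval T p := by
    have h : g.eval₂ (AdjoinRoot.of g) (AdjoinRoot.root g) = 0 := AdjoinRoot.eval₂_root _
    have h' : AdjoinRoot.root g ^ 2 = AdjoinRoot.of g p := by
      rw [← sub_eq_zero, ← h]; subst hg; simp
    have e : χ.toRingHom.comp (AdjoinRoot.of g) = (aeval T).toRingHom :=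
      Polynomial.ringHom_ext (fun c => (hχ c).trans (aeval_C T c).symm) (aeval_X T).symm
    rw [← map_pow, h']
    exact RingHom.congr_fun e p
  have h1 : σ Y ^ 2 = aeval (σ T) p := by rw [← map_pow, hYT]; exact (aeval_algHom_apply σ T p).symm
  have h3 : aeval (σ T) p = y' ^ 2 := by
    rw [show σ T = t' + (σ T - t') by ring, aeval_add_of_sq_eq_zero p t' _ hα.2, hPt,
      aeval_algebraMap_apply, ht, map_zero, zero_mul, add_zero]
  have h4 : σ Y ^ 2 = y' ^ 2 + ε ^ 2 := by
    linear_combination (2 : B) * hβ.1 + hβ.2 +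
      (y' * ε + y' * (σ Y - (y' + ε))) * h2B
  exact add_left_cancel (a := y' ^ 2) (by rw [add_zero, ← h4, h1, h3])

end Point

variable {k : Type u} [Field k] {X : Scheme.{u}} [X.Over (Spec (CommRingCat.of k))]
  {f : X ⟶ P 1 k} [IsAffineHom f] {a : ℕ}

/-- A smooth double cover with twist at least two is not of the form `y² = P(t)` in characteristic two. -/
theorem two_ne_zero_or_Q_ne_zero [Smooth (X ↘ Spec (CommRingCat.of k))]
    (hf : f ≫ pr 1 k = X ↘ Spec (CommRingCat.of k)) (q : Quad f a) (ha : 2 ≤ a) :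
    (2 : k) ≠ 0 ∨ q.Q 0 ≠ 0 := by
  classical
  by_contra hcon
  push Not at hcon
  obtain ⟨h2, hQ0⟩ := hcon
  have hQ : ∀ i, q.Q i = 0 := fun i => by
    fin_cases i
    · exact hQ0
    · refine Polynomial.toLaurent_eq_zero.1 ((LaurentPolynomial.invert (R := k)).injective ?_)
      rw [map_zero]
      exact q.transQ.symm.trans (by rw [hQ0, map_zero, mul_zero])
  have hder : ∀ i, (Polynomial.derivative (q.P i)).natDegree = 0 ∧ Polynomial.derivative (q.P i) ≠ 0 := fun i => by
    have hU : IsAffineOpen (f ⁻¹ᵁ U k i) :=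
      (Proj.isAffineOpen_basicOpen _ _ (Groth.L18.PS.X_mem 1 i) one_pos).preimage f
    let α := ((X ↘ Spec (CommRingCat.of k)).appLE ⊤ (f ⁻¹ᵁ U k i) (by simp)).hom.comp
      (Scheme.ΓSpecIso (CommRingCat.of k)).inv.hom
    have hα : α.Smooth := by
      have h := HasRingHomProperty.appLE (@Smooth) (X ↘ Spec (CommRingCat.of k)) inferInstance
        ⟨⊤, isAffineOpen_top _⟩ ⟨_, hU⟩ (by simp)
      exact (RingHom.Smooth.respectsIso.2 _ (Scheme.ΓSpecIso (CommRingCat.of k)).symm.commRingCatIsoToRingEquiv h)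
    letI : Algebra k Γ(X, f ⁻¹ᵁ U k i) := α.toAlgebra
    haveI : Algebra.Smooth k Γ(X, f ⁻¹ᵁ U k i) := hα
    have hαc : ∀ c, pol f i (Polynomial.C c) = α c := fun c => by
      show f.app (U k i) (φ k i (Polynomial.C c)) = _
      rw [φ_C]
      refine (app_res f le_top (ProjUP.toGlobal (pr 1 k) c)).symm.trans ?_
      simp only [α, ← hf]
      rfl
    have hg : eqn q i = Polynomial.X ^ 2 - Polynomial.C (q.P i) := by
      rw [eqn, hQ i, map_zero, zero_mul, add_zero]
    have hne := derivative_ne_zero_of_formallySmooth hg (chartEquiv q i) (fun c => by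
      simp only [chartEquiv, RingEquiv.ofBijective_apply, chartMap, AdjoinRoot.lift_of]
      exact hαc c) h2
    refine ⟨?_, fun h0 => hne 0 (by rw [h0, map_zero])⟩
    by_contra hd
    obtain ⟨t, ht⟩ := IsAlgClosed.exists_aeval_eq_zero (AlgebraicClosure k) (Polynomial.derivative (q.P i))
      (fun h => hd (Polynomial.natDegree_eq_of_degree_eq_some h))
    exact hne t ht
  have h1 : (q.P 1).coeff 1 ≠ 0 := fun h => (hder 1).2 (by
    rw [Polynomial.eq_C_of_natDegree_eq_zero (hder 1).1, Polynomial.coeff_derivative, h, zero_mul, map_zero])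
  rw [(coeff_eq_of_T_mul_eq q.transP).2 1 (by omega)] at h1
  have h2' := congrArg (fun r : Polynomial k => r.coeff (2 * a - 2)) (Polynomial.eq_C_of_natDegree_eq_zero (hder 0).1)
  simp only [Polynomial.coeff_derivative, Polynomial.coeff_C, if_neg (show 2 * a - 2 ≠ 0 by omega)] at h2'
  rw [show 2 * a - 2 + 1 = 2 * a - 1 by omega, mul_eq_zero, or_iff_right h1] at h2'
  rw [show 2 * a - 2 = 2 * (a - 1) by omega, Nat.cast_mul, Nat.cast_ofNat, h2, zero_mul, zero_add] at h2'
  exact one_ne_zero h2'

variable [IsIntegral X] [IsFinite f]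

omit [X.Over (Spec (CommRingCat.of k))] [IsAffineHom f] in
/-- The function field of a double cover with `2y + Q ≠ 0` is separable. -/
theorem isSeparable_of_two_ne_zero_or_Q_ne_zero (hdom : f (genericPoint X) = genericPoint (P 1 k))
    (q : Quad f a) (hq : (2 : k) ≠ 0 ∨ q.Q 0 ≠ 0) :
    letI := (overMap f (genericPoint X) (genericPoint (P 1 k)) hdom).toAlgebra
    Algebra.IsSeparable (P 1 k).functionField X.functionField := by
  classical
  letI := (overMap f (genericPoint X) (genericPoint (P 1 k)) hdom).toAlgebra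
  let L := (P 1 k).functionField
  let K := X.functionField
  have hU0 : IsAffineOpen (U k 0) := Proj.isAffineOpen_basicOpen _ _ (Groth.L18.PS.X_mem 1 0) one_pos
  have hW : IsAffineOpen (f ⁻¹ᵁ U k 0) := hU0.preimage f
  have hne : Nonempty (U k 0) := by
    by_contra h
    rw [not_nonempty_iff] at h
    haveI : Subsingleton Γ(P 1 k, U k 0) := subsingleton_of_forall_eq 0 fun z =>
      TopCat.Presheaf.section_ext (P 1 k).sheaf _ z 0 fun x hx => (h.false ⟨x, hx⟩).elim
    exact zero_ne_one (α := Polynomial k) ((φ_bijective k 0).1 (Subsingleton.elim _ _))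
  obtain ⟨⟨x₀, hx₀⟩⟩ := hne
  have hηP : genericPoint (P 1 k) ∈ U k 0 :=
    ((genericPoint_spec (P 1 k)).specializes trivial).mem_open (U k 0).2 hx₀
  have hη : genericPoint X ∈ f ⁻¹ᵁ U k 0 := show f (genericPoint X) ∈ U k 0 from hdom.symm ▸ hηP
  haveI : Nonempty (f ⁻¹ᵁ U k 0 : X.Opens) := ⟨⟨_, hη⟩⟩
  haveI := functionField_isFractionRing_of_isAffineOpen X (f ⁻¹ᵁ U k 0) hW
  let γ : Γ(X, f ⁻¹ᵁ U k 0) →+* K := (X.presheaf.germ (f ⁻¹ᵁ U k 0) (genericPoint X) hη).hom
  have hγ : Function.Injective γ := germ_injective_of_isIntegral X (genericPoint X) hη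
  let ι : Polynomial k →+* L := ((P 1 k).presheaf.germ (U k 0) (genericPoint (P 1 k)) hηP).hom.comp (φ k 0)
  have hι : ∀ p, algebraMap L K (ι p) = γ (pol f 0 p) :=
    fun p => overMap_germ f (genericPoint X) (genericPoint (P 1 k)) hdom (U k 0) hηP (φ k 0 p)
  let y : K := γ (q.y 0)
  let g : Polynomial L := Polynomial.X ^ 2 + Polynomial.C (ι (q.Q 0)) * Polynomial.X - Polynomial.C (ι (q.P 0))
  have hg : Polynomial.aeval y g = 0 := by
    simp only [g, map_sub, map_add, map_pow, map_mul, Polynomial.aeval_X, Polynomial.aeval_C, hι, y]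
    rw [← map_pow, ← map_mul, ← map_add, q.rel, sub_self]
  have hg' : Polynomial.aeval y (Polynomial.derivative g) ≠ 0 := by
    intro h
    simp only [g, Polynomial.derivative_sub, Polynomial.derivative_add, Polynomial.derivative_X_sq,
      Polynomial.derivative_C_mul, Polynomial.derivative_X, Polynomial.derivative_C, mul_one, sub_zero, map_add,
      map_mul, Polynomial.aeval_X, Polynomial.aeval_C, map_ofNat, hι, y] at h
    have h' : γ (pol f 0 (q.Q 0) + pol f 0 (Polynomial.C 2) * q.y 0) = 0 := by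
      rw [map_ofNat Polynomial.C 2, map_ofNat (pol f 0) 2, map_add, map_mul, map_ofNat γ 2, add_comm]
      exact h
    have := (q.bij 0).1 (a₁ := (q.Q 0, Polynomial.C 2)) (a₂ := (0, 0))
      (by simpa using (map_eq_zero_iff γ hγ).1 h')
    rcases hq with h2 | hQ
    · exact h2 (Polynomial.C_eq_zero.1 (congrArg Prod.snd this))
    · exact hQ (congrArg Prod.fst this)
  have hint : IsIntegral L y := ⟨g, by
    refine Polynomial.Monic.sub_of_left ?_ ?_
    · refine (Polynomial.monic_X_pow 2).add_of_left ?_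
      rw [Polynomial.degree_X_pow]
      exact (Polynomial.degree_C_mul_X_le _).trans_lt (by norm_num)
    · rw [Polynomial.degree_add_eq_left_of_degree_lt, Polynomial.degree_X_pow]
      · exact Polynomial.degree_C_le.trans_lt (by norm_num)
      · rw [Polynomial.degree_X_pow]
        exact (Polynomial.degree_C_mul_X_le _).trans_lt (by norm_num), hg⟩
  have hsepy : IsSeparable L y := by
    refine (Polynomial.separable_iff_derivative_ne_zero (minpoly.irreducible hint)).2 fun h0 => hg' ?_
    obtain ⟨r, hr⟩ := minpoly.dvd L y hg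
    rw [hr, Polynomial.derivative_mul, h0, zero_mul, zero_add, map_mul, minpoly.aeval, zero_mul]
  refine ⟨fun z => mem_separableClosure_iff.1 ?_⟩
  have hmem : ∀ u, γ u ∈ separableClosure L K := fun u => by
    obtain ⟨c, rfl⟩ := (q.bij 0).2 u
    rw [map_add, map_mul, ← hι, ← hι]
    exact add_mem (IntermediateField.algebraMap_mem _ _)
      (mul_mem (IntermediateField.algebraMap_mem _ _) (mem_separableClosure_iff.2 hsepy))
  obtain ⟨u, v, -, hz⟩ := IsFractionRing.div_surjective (A := Γ(X, f ⁻¹ᵁ U k 0)) z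
  rw [← hz]
  exact div_mem (hmem u) (hmem v)

end Groth.L21.P1
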