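import Groth.Agent.L21.P1.Chart

/-!
Frames of `O(d)` on the two charts of the projective line, with transition `T ^ d`.
-/

set_option autoImplicit false
set_option backward.isDefEq.respectTransparency false
set_option linter.style.haveILetI false
universe u

open CategoryTheory CategoryTheory.Limits AlgebraicGeometry TopologicalSpace Opposite

noncomputable section

namespace Groth.L21.P1

open Groth.L18.PUP (P D cc)
open Groth.L18.Frame (IsFrame rs ro)

variable (k : Type u) [Field k]

/-- `O(d)` on the projective line. -/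
abbrev O (d : ℤ) : (P 1 k).Modules := Twist.twist (CohB1.polyGrading 1 k) d

/-- The homogeneous element `X_i ^ m`. -/
def xp (i : Fin 2) (m : ℕ) : CohB1.polyGrading 1 k m :=
  ⟨MvPolynomial.X i ^ m, MvPolynomial.isHomogeneous_X_pow i m⟩

theorem notMem_U {i : Fin 2} (V : (P 1 k).Opens) (h : V ≤ U k i) (m : ℕ)
    (x : (V : Opens (ProjectiveSpectrum.top (CohB1.polyGrading 1 k)))) :
    (xp k i m).1 ∉ x.1.asHomogeneousIdeal :=
  Groth.L16.ProjTwist.notMem_pow (CohB1.polyGrading 1 k) ((Proj.mem_basicOpen _ _ _).1 (h x.2)) m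

/-- The frame of `O(d)` on a chart. -/
def tw (d : ℤ) (i : Fin 2) : Γ(O k d, U k i) :=
  Groth.L16.ProjTwist.gen (xp k i d.toNat) (xp k i (-d).toNat) (N := d) (by omega) (U k i)
    (notMem_U k _ le_rfl _)

theorem tw_val (d : ℤ) (i : Fin 2) (x : (U k i : Opens (ProjectiveSpectrum.top (CohB1.polyGrading 1 k)))) :
    ((tw k d i).1 x).1 = Localization.mk (MvPolynomial.X i ^ d.toNat)
      ⟨MvPolynomial.X i ^ (-d).toNat, notMem_U k _ le_rfl _ x⟩ := rfl

theorem isFrame_tw (d : ℤ) (i : Fin 2) : IsFrame (O k d) (U k i) (tw k d i) := fun V h =>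
  ⟨Groth.L16.ProjTwist.smul_gen_injective (xp k i d.toNat) (xp k i (-d).toNat) (by omega) V
      (notMem_U k V h _) (notMem_U k V h _),
    Groth.L16.ProjTwist.smul_gen_surjective (xp k i d.toNat) (xp k i (-d).toNat) (by omega) V
      (notMem_U k V h _) (notMem_U k V h _)⟩

/-- The value of a coordinate. -/
theorem val_cc (i j : Fin 2) (h : U01 k ≤ U k i)
    (x : (U01 k : Opens (ProjectiveSpectrum.top (CohB1.polyGrading 1 k)))) :
    HomogeneousLocalization.val ((show Γ(P 1 k, U01 k) from ro h (cc (R := k) i j)).1 x) =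
      Localization.mk (MvPolynomial.X j) ⟨MvPolynomial.X i ^ 1, notMem_U k _ h 1 x⟩ := by
  show HomogeneousLocalization.val
    ((Proj.awayToSection (CohB1.polyGrading 1 k) (MvPolynomial.X i) (Groth.L18.PS.coord i j)).1 _) = _
  erw [ProjectiveSpectrum.Proj.awayToSection_apply]
  rw [Groth.L18.PS.coord, HomogeneousLocalization.Away.val_mk, Localization.mk_eq_mk', IsLocalization.map_mk',
    ← Localization.mk_eq_mk']
  rfl

/-- The value of a power of a coordinate. -/
theorem val_cc_pow (i j : Fin 2) (m : ℕ) (h : U01 k ≤ U k i)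
    (x : (U01 k : Opens (ProjectiveSpectrum.top (CohB1.polyGrading 1 k)))) :
    HomogeneousLocalization.val ((show Γ(P 1 k, U01 k) from ro h (cc (R := k) i j) ^ m).1 x) =
      Localization.mk (MvPolynomial.X j ^ m) ⟨MvPolynomial.X i ^ m, notMem_U k _ h m x⟩ := by
  induction m with
  | zero =>
    simp only [pow_zero]
    exact HomogeneousLocalization.val_one.trans Localization.mk_one.symm
  | succ m ih =>
    simp only [pow_succ]
    refine (HomogeneousLocalization.val_mul _ _).trans ?_
    rw [ih]
    refine (congrArg _ (val_cc k i j h x)).trans ?_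
    rw [Localization.mk_mul]
    refine congrArg _ (Subtype.ext ?_)
    show MvPolynomial.X i ^ m * MvPolynomial.X i ^ 1 = _
    rw [pow_one]

theorem tw_transition (d : ℤ) :
    ψ k (LaurentPolynomial.T d) • rs (O k d) (inf_le_left : U01 k ≤ U k 0) (tw k d 0) =
      rs (O k d) (inf_le_right : U01 k ≤ U k 1) (tw k d 1) := by
  rcases le_total 0 d with hd | hd
  · obtain ⟨m, rfl⟩ := Int.eq_ofNat_of_zero_le hd
    have hψ : ψ k (LaurentPolynomial.T (m : ℤ)) = ro inf_le_left (cc (R := k) 0 1) ^ m := by
      rw [show ro (inf_le_left : U01 k ≤ U k 0) (cc (R := k) 0 1) = ψ k (LaurentPolynomial.T 1) from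
        (ψ_T_one k).symm, ← map_pow, LaurentPolynomial.T_pow, mul_one]
    rw [hψ]
    refine Subtype.ext (funext fun x => Subtype.ext ?_)
    erw [Twist.coe_smul_val, val_cc_pow k 0 1 m inf_le_left x]
    show Localization.mk _ _ * Localization.mk _ _ = Localization.mk _ _
    rw [Localization.mk_mul, Localization.mk_eq_mk_iff, Localization.r_iff_exists]
    refine ⟨1, ?_⟩
    simp only [OneMemClass.coe_one, one_mul, Submonoid.coe_mul, xp, Int.toNat_natCast, Int.toNat_neg_natCast,
      pow_zero, mul_one]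
    exact mul_comm _ _
  · obtain ⟨m, hm⟩ := Int.eq_ofNat_of_zero_le (neg_nonneg.2 hd)
    obtain rfl : d = -(m : ℤ) := by omega
    have hψ : ψ k (LaurentPolynomial.T (-(m : ℤ))) = ro inf_le_right (cc (R := k) 1 0) ^ m := by
      rw [show ro (inf_le_right : U01 k ≤ U k 1) (cc (R := k) 1 0) = ψ k (LaurentPolynomial.T (-1)) from
        (ψ_T_neg_one k).symm, ← map_pow, LaurentPolynomial.T_pow, mul_neg_one]
    rw [hψ]
    refine Subtype.ext (funext fun x => Subtype.ext ?_)
    erw [Twist.coe_smul_val, val_cc_pow k 1 0 m inf_le_right x]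
    show Localization.mk _ _ * Localization.mk _ _ = Localization.mk _ _
    rw [Localization.mk_mul, Localization.mk_eq_mk_iff, Localization.r_iff_exists]
    refine ⟨1, ?_⟩
    simp only [OneMemClass.coe_one, one_mul, Submonoid.coe_mul, xp, hm, Int.toNat_natCast, Int.toNat_neg_natCast,
      pow_zero, mul_one]

end Groth.L21.P1
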