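import Groth.Agent.L21.P1.Split
import Mathlib.LinearAlgebra.Matrix.Determinant.Basic

/-!
Uniqueness of the splitting type of a vector bundle on the projective line.
-/

set_option autoImplicit false
set_option backward.isDefEq.respectTransparency false
set_option linter.style.haveILetI false
universe u

open CategoryTheory CategoryTheory.Limits AlgebraicGeometry TopologicalSpace Opposite

noncomputable section

namespace Groth.L21.P1

open Groth.L18.PUP (P)
open Groth.L18.Frame (rs ro)
open Groth.L19.ProjBdl (IsBasisOn lc app_rs app_lc)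

/-- A polynomial in `T` can only be a shifted polynomial in `T⁻¹` if the shift is large enough. -/
theorem le_of_T_mul_eq {k : Type u} [CommRing k] {d d' : ℤ} {p q : Polynomial k} (hp : p ≠ 0)
    (h : LaurentPolynomial.T d * Polynomial.toLaurent p =
      LaurentPolynomial.T d' * LaurentPolynomial.invert (Polynomial.toLaurent q)) : d ≤ d' := by
  obtain ⟨m, hm⟩ := Polynomial.support_nonempty.2 hp
  have h1 : (LaurentPolynomial.T d * Polynomial.toLaurent p).coeff (d + (m : ℤ)) ≠ 0 := by
    rw [LaurentPolynomial.T, AddMonoidAlgebra.coeff_single_mul_add, one_mul]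
    have h2 : ((m : ℤ)) ∈ (Polynomial.toLaurent p).coeff.support := by
      rw [LaurentPolynomial.support_coeff_toLaurent]
      exact Finset.mem_map.2 ⟨m, hm, rfl⟩
    exact Finsupp.mem_support_iff.1 h2
  rw [h, show d + (m : ℤ) = d' + (d + m - d') by ring, LaurentPolynomial.T,
    AddMonoidAlgebra.coeff_single_mul_add, one_mul, LaurentPolynomial.invert_apply,
    ← Finsupp.mem_support_iff, LaurentPolynomial.support_coeff_toLaurent] at h1
  obtain ⟨n, -, hn⟩ := Finset.mem_map.1 h1
  have hn' : (n : ℤ) = -(d + m - d') := hn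
  omega

/-- An invertible matrix has non-zero entries along some permutation. -/
theorem exists_perm_ne_zero {R : Type u} [CommRing R] [Nontrivial R] {r : ℕ} {P : Matrix (Fin r) (Fin r) R}
    (hP : IsUnit P) : ∃ σ : Equiv.Perm (Fin r), ∀ j, P (σ j) j ≠ 0 := by
  classical
  by_contra hcon
  push Not at hcon
  have h0 : P.det = 0 := by
    rw [Matrix.det_apply]
    refine Finset.sum_eq_zero fun σ _ => ?_
    obtain ⟨j, hj⟩ := hcon σ
    rw [Finset.prod_eq_zero (f := fun i => P (σ i) i) (Finset.mem_univ j) hj, smul_zero]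
  exact not_isUnit_zero (h0 ▸ (P.isUnit_iff_isUnit_det).1 hP)

/-- Non-increasing sequences dominated along permutations. -/
theorem le_of_perm {r : ℕ} {d d' : Fin r → ℤ} (hd : Antitone d) (hd' : Antitone d') (σ : Equiv.Perm (Fin r))
    (h : ∀ j, d j ≤ d' (σ j)) (j : Fin r) : d j ≤ d' j := by
  classical
  by_contra hlt
  push Not at hlt
  have hsub : (Finset.Iic j).image σ ⊆ Finset.Iio j := fun l hl => by
    obtain ⟨i, hi, rfl⟩ := Finset.mem_image.1 hl
    rw [Finset.mem_Iio]
    by_contra hle
    push Not at hle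
    have h1 : d j ≤ d i := hd (Finset.mem_Iic.1 hi)
    have h2 : d' (σ i) ≤ d' j := hd' hle
    have h3 := h i
    omega
  have := Finset.card_le_card hsub
  rw [Finset.card_image_of_injective _ σ.injective, Fin.card_Iic, Fin.card_Iio] at this
  omega

variable (k : Type u) [Field k] {r : ℕ}

theorem exists_matrix_of_bases {E : (P 1 k).Modules} {i : Fin 2} {b c : Fin r → Γ(E, U k i)}
    (hb : IsBasisOn E (U k i) b) (hc : IsBasisOn E (U k i) c) :
    ∃ Q : Matrix (Fin r) (Fin r) (Polynomial k), IsUnit Q ∧ comb b ((φ k i).mapMatrix Q) = c := by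
  obtain ⟨Q, hQ, hQc⟩ := exists_isUnit_comb hb hc
  let e := RingEquiv.ofBijective (φ k i) (φ_bijective k i)
  refine ⟨e.symm.toRingHom.mapMatrix Q, hQ.map _, ?_⟩
  rw [← hQc]
  congr 1
  ext a b
  exact e.apply_symm_apply (Q a b)

theorem splitting_le {d d' : Fin r → ℤ} (hd : Antitone d) (hd' : Antitone d') (θ : sumO k d ≅ sumO k d') :
    ∀ j, d j ≤ d' j := by
  classical
  let t : ∀ i, Fin r → Γ(sumO k d', U k i) := fun i l => θ.hom.app (U k i) (stdBasis k d i l)
  have ht : ∀ i, IsBasisOn (sumO k d') (U k i) (t i) := fun i V h => by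
    have e : lc (sumO k d') (t i) h = θ.hom.app V ∘ lc (sumO k d) (stdBasis k d i) h :=
      funext fun a => (app_lc θ.hom (stdBasis k d i) h a).symm
    rw [e]
    exact (ConcreteCategory.bijective_of_isIso (θ.hom.app V)).comp (isBasisOn_stdBasis k d i V h)
  obtain ⟨Pm, hP, hPc⟩ := exists_matrix_of_bases k (isBasisOn_stdBasis k d' 0) (ht 0)
  obtain ⟨Qm, -, hQc⟩ := exists_matrix_of_bases k (isBasisOn_stdBasis k d' 1) (ht 1)
  let c0 := fun l => rs (sumO k d') (inf_le_left : U01 k ≤ U k 0) (stdBasis k d' 0 l)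
  let c1 := fun l => rs (sumO k d') (inf_le_right : U01 k ≤ U k 1) (stdBasis k d' 1 l)
  have hc1 : c1 = comb c0 (Matrix.diagonal fun l => ψ k (LaurentPolynomial.T (d' l))) := by
    rw [comb_diagonal]
    exact funext fun l => stdBasis_transition k d' l
  have e0 : (((φ k 0).mapMatrix Pm).map
      ((P 1 k).presheaf.map (homOfLE (inf_le_left : U01 k ≤ U k 0)).op).hom) =
      (ψ k).toRingHom.mapMatrix (Pm.map Polynomial.toLaurent) := by
    ext a b
    exact (ψ_toLaurent k (Pm a b)).symm
  have e1 : (((φ k 1).mapMatrix Qm).map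
      ((P 1 k).presheaf.map (homOfLE (inf_le_right : U01 k ≤ U k 1)).op).hom) =
      (ψ k).toRingHom.mapMatrix ((Qm.map Polynomial.toLaurent).map LaurentPolynomial.invert) := by
    ext a b
    exact (ψ_invert_toLaurent k (Qm a b)).symm
  have hL : (fun l => rs (sumO k d') (inf_le_right : U01 k ≤ U k 1) (t 1 l)) =
      comb c0 ((ψ k).toRingHom.mapMatrix ((Matrix.diagonal fun l => LaurentPolynomial.T (d' l)) *
        (Qm.map Polynomial.toLaurent).map LaurentPolynomial.invert)) := by
    rw [← hQc, rs_comb, e1, show (fun l => rs (sumO k d') _ (stdBasis k d' 1 l)) = c1 from rfl, hc1, comb_comb,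
      map_mul]
    congr 2
    exact (Matrix.diagonal_map (map_zero _)).symm
  have hR : (fun l => rs (sumO k d') (inf_le_right : U01 k ≤ U k 1) (t 1 l)) =
      comb c0 ((ψ k).toRingHom.mapMatrix ((Pm.map Polynomial.toLaurent) *
        (Matrix.diagonal fun l => LaurentPolynomial.T (d l)))) := by
    rw [map_mul, ← comb_comb, ← e0, ← rs_comb, hPc, show (ψ k).toRingHom.mapMatrix
      (Matrix.diagonal fun l => LaurentPolynomial.T (d l)) =
        Matrix.diagonal fun l => ψ k (LaurentPolynomial.T (d l)) from Matrix.diagonal_map (map_zero _), comb_diagonal]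
    funext l
    show rs _ _ (θ.hom.app (U k 1) _) = _ • rs _ _ (θ.hom.app (U k 0) _)
    rw [← app_rs, ← app_rs, stdBasis_transition, Scheme.Modules.Hom.app_smul]
  have heq := comb_injective ((isBasisOn_stdBasis k d' 0).mono (inf_le_left : U01 k ≤ U k 0)) (hL.symm.trans hR)
  obtain ⟨σ, hσ⟩ := exists_perm_ne_zero hP
  refine le_of_perm hd hd' σ fun j => le_of_T_mul_eq (hσ j) (q := Qm (σ j) j) ?_
  let ML : Matrix (Fin r) (Fin r) (LaurentPolynomial k) :=
    (Matrix.diagonal fun l => LaurentPolynomial.T (d' l)) *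
      (Qm.map Polynomial.toLaurent).map LaurentPolynomial.invert
  let MR : Matrix (Fin r) (Fin r) (LaurentPolynomial k) :=
    (Pm.map Polynomial.toLaurent) * (Matrix.diagonal fun l => LaurentPolynomial.T (d l))
  have h1 : ψ k (ML (σ j) j) = ψ k (MR (σ j) j) := congrFun (congrFun heq (σ j)) j
  have h2 := (ψ k).injective h1
  simp only [ML, MR] at h2
  rw [Matrix.diagonal_mul, Matrix.mul_diagonal] at h2
  rw [mul_comm]
  exact h2.symm

theorem splitting_unique {d d' : Fin r → ℤ} (hd : Antitone d) (hd' : Antitone d') (θ : sumO k d ≅ sumO k d') :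
    d = d' :=
  funext fun j => le_antisymm (splitting_le k hd hd' θ j) (splitting_le k hd' hd θ.symm j)

end Groth.L21.P1
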